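import Cfsg.Agent.Lib.Thompson.PSolvable

/-!
# A proper step above a normal subgroup with `p`-solvable quotient
-/

set_option autoImplicit false

namespace Cfsg.Agent.Fusion92.TClass

variable {p : ℕ} [Fact p.Prime]

theorem mem_of_pow_of_pow {Γ : Type*} [Group Γ] {N : Subgroup Γ} {x : Γ} {m n : ℕ}
    (hm : x ^ m ∈ N) (hn : x ^ n ∈ N) (h : m.Coprime n) : x ∈ N := by
  have h1 : x ^ ((m : ℤ) * Nat.gcdA m n + (n : ℤ) * Nat.gcdB m n) ∈ N := by
    rw [zpow_add, zpow_mul, zpow_mul, zpow_natCast, zpow_natCast]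
    exact N.mul_mem (N.zpow_mem hm _) (N.zpow_mem hn _)
  rwa [← Nat.gcd_eq_gcd_ab, Nat.coprime_iff_gcd_eq_one.mp h, Nat.cast_one, zpow_one] at h1

theorem exists_top_step {Q : Type*} [Group Q] [Finite Q] [Nontrivial Q] (h : Cfsg.IsPSolvable p Q) :
    ∃ N : Subgroup Q, N ≠ ⊤ ∧
      ((∀ x : Q, (orderOf x).Coprime p → x ∈ N) ∨ ∀ x : Q, (∃ k, x ^ p ^ k = 1) → x ∈ N) := by
  obtain ⟨n, H, h0, hl, -, hN, hi⟩ := h
  have : ∃ i : Fin n, H i.castSucc ≠ ⊤ ∧ H i.succ = ⊤ := by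
    by_contra hcon
    push Not at hcon
    have : ∀ i, H i ≠ ⊤ := fun i => Fin.induction (h0 ▸ bot_ne_top) (fun i hi => hcon i hi) i
    exact this _ hl
  obtain ⟨i, hne, htop⟩ := this
  have hidx := hi i
  rw [htop, Subgroup.relIndex_top_right] at hidx
  refine ⟨H i.castSucc, hne, ?_⟩
  have hpw : ∀ x : Q, x ^ (H i.castSucc).index ∈ H i.castSucc := fun x => by
    haveI := hN i.castSucc
    exact Subgroup.pow_index_mem _ x
  rcases hidx with ⟨m, hm⟩ | hm
  · exact Or.inl fun x hx => mem_of_pow_of_pow (hpw x) (by rw [pow_orderOf_eq_one]; exact one_mem _)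
      (hm ▸ (hx.symm.pow_left m))
  · exact Or.inr fun x ⟨k, hk⟩ => mem_of_pow_of_pow (hpw x) (by rw [hk]; exact one_mem _) (hm.pow_right k)

/-- Above a normal subgroup with nontrivial `p`-solvable quotient there is a proper subgroup,
stable under the whole group, containing all `p'`-elements or closed under `p`-th roots. -/
theorem exists_group_step {Γ : Type*} [Group Γ] [Finite Γ] {G G₁ H : Subgroup Γ} (hHG : H ≤ G₁)
    (hG₁ : G₁ ≤ G) (hne : H ≠ G₁) [hn : (H.subgroupOf G).Normal]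
    (hnorm : ∀ a ∈ G₁, ∀ c ∈ G, c * a * c⁻¹ ∈ G₁)
    (hsolv : Cfsg.IsPSolvable p (G ⧸ H.subgroupOf G)) :
    ∃ K : Subgroup Γ, H ≤ K ∧ K ≤ G₁ ∧ K ≠ G₁ ∧ (∀ a ∈ K, ∀ c ∈ G, c * a * c⁻¹ ∈ K) ∧
      ((∀ a ∈ G₁, (orderOf a).Coprime p → a ∈ K) ∨ ∀ a ∈ G₁, ∀ n : ℕ, a ^ p ^ n ∈ K → a ∈ K) := by
  have hHn : ∀ a ∈ H, ∀ c ∈ G, c * a * c⁻¹ ∈ H := fun a ha c hc =>
    Subgroup.mem_subgroupOf.mp (hn.conj_mem ⟨a, hG₁ (hHG ha)⟩ (Subgroup.mem_subgroupOf.mpr ha) ⟨c, hc⟩)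
  -- the two candidates
  have mk : ∀ C : Γ → Prop, (∀ a c, C a → C (c * a * c⁻¹)) →
      H ⊔ Subgroup.closure {a | a ∈ G₁ ∧ C a} ≤ G₁ ∧
        ∀ a ∈ H ⊔ Subgroup.closure {a | a ∈ G₁ ∧ C a}, ∀ c ∈ G,
          c * a * c⁻¹ ∈ H ⊔ Subgroup.closure {a | a ∈ G₁ ∧ C a} := by
    intro C hC
    refine ⟨sup_le hHG ((Subgroup.closure_le _).mpr fun a ha => ha.1), fun a ha c hc => ?_⟩
    have hle : (H ⊔ Subgroup.closure {a | a ∈ G₁ ∧ C a}).map (MulAut.conj c).toMonoidHom ≤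
        H ⊔ Subgroup.closure {a | a ∈ G₁ ∧ C a} := by
      rw [Subgroup.map_sup, MonoidHom.map_closure]
      refine sup_le ?_ ((Subgroup.closure_le _).mpr ?_)
      · rintro _ ⟨b, hb, rfl⟩
        exact Subgroup.mem_sup_left (hHn b hb c hc)
      · rintro _ ⟨b, ⟨hb, hbC⟩, rfl⟩
        exact Subgroup.mem_sup_right (Subgroup.subset_closure ⟨hnorm b hb c hc, hC b c hbC⟩)
    exact hle ⟨a, ha, rfl⟩
  obtain ⟨hA, hAn⟩ := mk (fun a => (orderOf a).Coprime p) fun a c h => by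
    rwa [← MulAut.conj_apply, MulEquiv.orderOf_eq]
  obtain ⟨hB, hBn⟩ := mk (fun a => ∃ k, a ^ p ^ k = 1) fun a c ⟨k, hk⟩ =>
    ⟨k, by rw [conj_pow, hk, mul_one, mul_inv_cancel]⟩
  set A := H ⊔ Subgroup.closure {a | a ∈ G₁ ∧ (orderOf a).Coprime p} with hAd
  set B := H ⊔ Subgroup.closure {a | a ∈ G₁ ∧ ∃ k, a ^ p ^ k = 1} with hBd
  by_cases hAG : A = G₁
  · refine ⟨B, le_sup_left, hB, fun hBG => ?_, hBn, Or.inr fun a ha n hna => ?_⟩
    · -- the quotient would be trivial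
      haveI : (H.subgroupOf G₁).Normal :=
        (Subgroup.normal_subgroupOf_iff hHG).mpr fun a c ha hc => hHn a ha c (hG₁ hc)
      have hQ : Cfsg.IsPSolvable p (G₁ ⧸ H.subgroupOf G₁) := by
        let φ : G₁ →* G ⧸ H.subgroupOf G := (QuotientGroup.mk' _).comp (Subgroup.inclusion hG₁)
        have hker : φ.ker = H.subgroupOf G₁ := by
          ext x
          rw [MonoidHom.mem_ker, MonoidHom.comp_apply, QuotientGroup.mk'_apply, QuotientGroup.eq_one_iff,
            Subgroup.mem_subgroupOf, Subgroup.mem_subgroupOf]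
          rfl
        exact Thompson.isPSolvable_of_equiv
          ((QuotientGroup.quotientKerEquivRange φ).symm.trans (QuotientGroup.quotientMulEquivOfEq hker))
          (Thompson.isPSolvable_subgroup φ.range hsolv)
      haveI : Nontrivial (G₁ ⧸ H.subgroupOf G₁) := QuotientGroup.nontrivial_iff.mpr fun ht =>
        hne (le_antisymm hHG (Subgroup.subgroupOf_eq_top.mp ht))
      obtain ⟨N, hN, hcase⟩ := exists_top_step hQ
      refine hN ((Subgroup.eq_top_iff' N).mpr fun q => ?_)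
      induction q using QuotientGroup.induction_on with
      | _ x =>
      suffices h : G₁ ≤ (N.comap (QuotientGroup.mk' (H.subgroupOf G₁))).map G₁.subtype by
        obtain ⟨y, hy, hyx⟩ := h x.2
        obtain rfl : y = x := Subtype.ext hyx
        exact hy
      have hH : H ≤ (N.comap (QuotientGroup.mk' (H.subgroupOf G₁))).map G₁.subtype := fun a ha => by
        refine ⟨⟨a, hHG ha⟩, ?_, rfl⟩
        rw [SetLike.mem_coe, Subgroup.mem_comap, QuotientGroup.mk'_apply,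
          (QuotientGroup.eq_one_iff _).mpr (Subgroup.mem_subgroupOf.mpr ha)]
        exact one_mem N
      rcases hcase with hc | hc
      · calc G₁ = A := hAG.symm
          _ ≤ _ := sup_le hH ((Subgroup.closure_le _).mpr fun a ⟨ha, hao⟩ =>
              ⟨⟨a, ha⟩, hc _ ((by rwa [Subgroup.orderOf_mk] : (orderOf (⟨a, ha⟩ : G₁)).Coprime p).coprime_dvd_left
                (orderOf_map_dvd _ _)), rfl⟩)
      · calc G₁ = B := hBG.symm
          _ ≤ _ := sup_le hH ((Subgroup.closure_le _).mpr fun a ⟨ha, k, hk⟩ =>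
              ⟨⟨a, ha⟩, hc _ ⟨k, by rw [← map_pow, show (⟨a, ha⟩ : G₁) ^ p ^ k = 1 from Subtype.ext hk,
                map_one]⟩, rfl⟩)
    · obtain ⟨k, m, hm, hkm⟩ := Nat.exists_eq_pow_mul_and_not_dvd (orderOf_pos a).ne' p
        (Fact.out : p.Prime).ne_one
      have h1 : a ^ m ∈ B := Subgroup.mem_sup_right (Subgroup.subset_closure
        ⟨G₁.pow_mem ha m, k, by rw [← pow_mul, mul_comm, ← hkm, pow_orderOf_eq_one]⟩)
      exact mem_of_pow_of_pow hna h1
        ((Nat.Prime.coprime_iff_not_dvd Fact.out).mpr hm |>.pow_left n)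
  · exact ⟨A, le_sup_left, hA, hAG, hAn, Or.inl fun a ha hao =>
      Subgroup.mem_sup_right (Subgroup.subset_closure ⟨ha, hao⟩)⟩

end Cfsg.Agent.Fusion92.TClass
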