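import Cfsg.Agent.Fusion92.TClass.Chain
import Cfsg.Agent.Fus93.NormalFocal

/-!
# A normal subsystem with the same automizer of `T` and no centralizer has `p`-power index
-/

set_option autoImplicit false

namespace Cfsg.Agent.Fusion92.TClass

open Cfsg Cfsg.Agent.Fusion Cfsg.Agent.Fusion.NormalLift
open Cfsg.FusionSystem (normalizerIn centralizerIn)

universe u

variable {Ω : Type u} [Group Ω] {S T : Subgroup Ω} {F : FusionSystem S} {E : FusionSystem T} {p : ℕ}

theorem good_mem (hTS : T ≤ S)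
    (hCE : ∀ Y : Subgroup Ω, Y ≤ centralizerIn S T → (∀ C : FusionSystem (centralizerIn S Y),
      F.IsCentralizerSystem Y C → E.IsSubsystemOf C) → Y ≤ T)
    (hsub : E.IsSubsystemOf F) {y : Ω} (hy : Good F E y) : y ∈ T := by
  refine hCE _ ((Subgroup.zpowers_le).mpr hy.1) (fun C hC P => hom_subset_of_isMap fun f hf => ?_)
    (Subgroup.mem_zpowers y)
  have hT : T ≤ centralizerIn S (Subgroup.zpowers y) := fun t ht =>
    ⟨hTS ht, Subgroup.mem_centralizer_iff.mpr fun z hz => by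
      obtain ⟨k, rfl⟩ := Subgroup.mem_zpowers_iff.mp hz
      exact (Subgroup.mem_centralizer_iff.mp (Subgroup.zpow_mem _ hy.1 k).2 t ht).symm⟩
  exact (IsCentralizerSystem.isMap_iff hC).mpr
    ⟨hf.of_isSubsystemOf hsub, hf.dom_le.trans hT, fun x hx => hT (hf.apply_mem hx), hy.2 P f hf⟩

variable [Finite S] [Fact p.Prime]

theorem pPowerIndex_of_base (h : NData F E p) (hU : S = T ⊔ centralizerIn S T)
    (hA : F.autGroup T = E.autGroup T)
    (hfoc : ∀ u ∈ Fus93.NormalFocal.focGen F T, u ∈ T) : E.HasPPowerIndexIn F p := by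
  haveI := h.finiteT
  haveI := finite_mulAut T
  have hTS := h.tS
  have hE : ∀ {k : Ω → Ω}, IsIso F T T k → IsIso E T T k := fun hk => by
    obtain ⟨a, ha, hae⟩ := hk.exists_aut
    have hai := (mem_autGroup le_rfl).mp (hA ▸ ha : a ∈ E.autGroup T)
    exact ⟨hai.1.congr hae, hk.2⟩
  refine ⟨h.sub, (Subgroup.closure_le _).mpr ?_, fun P hP => ?_⟩
  · rintro _ ⟨P, α, x, hP, -, rfl⟩
    haveI := finite_of_le hP
    have hαi := (mem_autGroup hP).mp α.2
    obtain ⟨f', hf', hfm⟩ := Fusion92.exists_map_mod h.pgroup h.sat h.closed hαi.1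
    have hfT : IsIso F T T f' := isIso_of_mapsTo (hf'.mono le_sup_right) hTS
      (fun z hz => Fusion92.closed_apply h.closed hf' (Subgroup.mem_sup_right hz) hz) le_rfl
    obtain ⟨g, hg, hge, hgc⟩ := Fus93.normal_ext h.normal (hE hfT)
    obtain ⟨gi, hgi, hgl, hgr⟩ := hg.exists_inv
    have hS : S ≤ T ⊔ centralizerIn S T := hU.le
    set δ := gi ∘ f' with hδd
    have hδ : IsMap F (P ⊔ T) δ := hf'.comp hgi.1 fun z hz => hS (hf'.apply_mem hz)
    have hδT : ∀ t ∈ T, δ t = t := fun t ht => by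
      show gi (f' t) = t
      rw [← hge t ht]
      exact hgl t (Subgroup.mem_sup_left ht)
    have hdec : ∀ {z : Ω}, z ∈ S → ∃ c ∈ centralizerIn S T, ∃ t ∈ T, z = c * t := fun {z} hz => by
      have h1 : z ∈ ((centralizerIn S T ⊔ T : Subgroup Ω) : Set Ω) := sup_comm T _ ▸ hS hz
      rw [Subgroup.coe_mul_of_left_le_normalizer_right _ _ ((Fusion.centralizerIn_le _ _).trans h.s_le)] at h1
      obtain ⟨c, hc, t, ht, rfl⟩ := Set.mem_mul.mp h1
      exact ⟨c, hc, t, ht, rfl⟩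
    have hgmod : ∀ z ∈ S, z⁻¹ * g z ∈ T := fun z hz => by
      obtain ⟨c, hc, t, ht, rfl⟩ := hdec hz
      rw [hg.1.map_mul (Subgroup.mem_sup_right hc) (Subgroup.mem_sup_left ht), hge t ht,
        show (c * t)⁻¹ * (g c * f' t) = t⁻¹ * (c⁻¹ * g c) * f' t by group]
      exact T.mul_mem (T.mul_mem (T.inv_mem ht) (Subgroup.mem_inf.mp (hgc c hc)).1) (hfT.mem ht)
    have hδmod : ∀ z ∈ P ⊔ T, z⁻¹ * δ z ∈ T := fun z hz => by
      obtain ⟨c, hc, t, ht, rfl⟩ := hdec (hf'.dom_le hz)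
      have hcPT : c ∈ P ⊔ T := by
        have := (P ⊔ T).mul_mem hz ((P ⊔ T).inv_mem (Subgroup.mem_sup_right ht))
        rwa [mul_inv_cancel_right] at this
      have hu : c⁻¹ * δ c ∈ T := hfoc _ ⟨c, hc, δ,
        hδ.mono (sup_le ((Subgroup.zpowers_le).mpr hcPT) le_sup_right), hδT, rfl⟩
      rw [hδ.map_mul hcPT (Subgroup.mem_sup_right ht), hδT t ht,
        show (c * t)⁻¹ * (δ c * t) = t⁻¹ * (c⁻¹ * δ c) * t by group]
      exact T.mul_mem (T.mul_mem (T.inv_mem ht) hu) ht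
    have hxM : (x : Ω) ∈ P ⊔ T := Subgroup.mem_sup_left x.2
    have hfe : f' x = g (δ x) := (hgr _ (hS (hf'.apply_mem hxM))).symm
    have h1 : (x : Ω)⁻¹ * f' x ∈ T := by
      rw [hfe, show (x : Ω)⁻¹ * g (δ x) = ((x : Ω)⁻¹ * δ x) * ((δ x)⁻¹ * g (δ x)) by group]
      exact T.mul_mem (hδmod _ hxM) (hgmod _ (hδ.apply_mem hxM))
    have h2 := hfm x x.2
    rw [autFun_coe] at h2
    have := T.mul_mem h1 (T.inv_mem h2)
    show (x : Ω)⁻¹ * (((α : MulAut P) x : P) : Ω) ∈ T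
    rwa [show (x : Ω)⁻¹ * f' x * ((((α : MulAut P) x : P) : Ω)⁻¹ * f' x)⁻¹ =
      (x : Ω)⁻¹ * (((α : MulAut P) x : P) : Ω) by group] at this
  · rintro _ ⟨a, -, rfl⟩
    haveI := finite_of_le (hP.trans hTS)
    have hai := (mem_autGroup (hP.trans hTS)).mp a.2
    obtain ⟨k, g, hk, hg, hfe⟩ := invariant_frattini h.invariant hai.1 hP
    exact autGroup_mem_of_isMap ((hg.comp (hE hk).1 fun x hx => hg.apply_mem hx).congr
      fun x hx => (hfe x hx).symm)

end Cfsg.Agent.Fusion92.TClass
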