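import Cfsg.Agent.Lib.Fusion.NormalLift
import Cfsg.Agent.PrimeIndex.Basic

/-!
# Classes of maps modulo a normal subgroup of `Aut_F(T)`

For a normal subsystem `E` over `T` and a normal subgroup `K` of index prime to `p` in `Aut_F(T)`
containing `Aut_E(T)`, the class of a map with source in `T` modulo `K` is well defined on the
subgroups centric in `E`.
-/

set_option autoImplicit false

namespace Cfsg.Agent.Fusion92.TClass

open Cfsg Cfsg.Agent.Fusion Cfsg.Agent.Fusion.NormalLift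
open Cfsg.FusionSystem (normalizerIn centralizerIn)

variable {Ω : Type*} [Group Ω] {S T : Subgroup Ω} {F : FusionSystem S} {E : FusionSystem T} {p : ℕ}
  {K : Subgroup (MulAut T)}

/-- A normal subgroup of index prime to `p` of `Aut_F(T)` containing `Aut_E(T)`. -/
structure KData (F : FusionSystem S) (E : FusionSystem T) (p : ℕ) (K : Subgroup (MulAut T)) :
    Prop where
  nd : NData F E p
  le : K ≤ F.autGroup T
  ge : E.autGroup T ≤ K
  normal : ∀ a ∈ K, ∀ c ∈ F.autGroup T, c * a * c⁻¹ ∈ K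
  primeTo : ∀ a ∈ F.autGroup T, ∀ n : ℕ, a ^ p ^ n ∈ K → a ∈ K

/-- `g` is the automorphism `a` of `T` after a map of `E`. -/
def Dec (F : FusionSystem S) (E : FusionSystem T) (R : Subgroup Ω) (g : Ω → Ω) (a : MulAut T) : Prop :=
  a ∈ F.autGroup T ∧ ∃ e, IsMap E R e ∧ ∀ x ∈ R, g x = autFun a (e x)

theorem Dec.dom_le {R : Subgroup Ω} {g : Ω → Ω} {a : MulAut T} (h : Dec F E R g a) : R ≤ T :=
  let ⟨_, he, _⟩ := h.2; he.dom_le

theorem Dec.mem {R : Subgroup Ω} {g : Ω → Ω} {a : MulAut T} (h : Dec F E R g a) {x : Ω} (hx : x ∈ R) :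
    g x ∈ T := by
  obtain ⟨-, e, he, hge⟩ := h
  rw [hge x hx]
  exact PrimeIndex.autFun_mem a (he.apply_mem hx)

theorem Dec.congr {R : Subgroup Ω} {g g' : Ω → Ω} {a : MulAut T} (h : Dec F E R g a)
    (he : ∀ x ∈ R, g x = g' x) : Dec F E R g' a :=
  let ⟨ha, e, hm, hg⟩ := h
  ⟨ha, e, hm, fun x hx => (he x hx).symm.trans (hg x hx)⟩

theorem Dec.mono {R R' : Subgroup Ω} {g : Ω → Ω} {a : MulAut T} (h : Dec F E R g a) (hle : R' ≤ R) :
    Dec F E R' g a :=
  let ⟨ha, e, hm, hg⟩ := h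
  ⟨ha, e, hm.mono hle, fun x hx => hg x (hle hx)⟩

theorem dec_aut {R : Subgroup Ω} (hR : R ≤ T) {a : MulAut T} (ha : a ∈ F.autGroup T) :
    Dec F E R (autFun a) a :=
  ⟨ha, id, isMap_id hR, fun _ _ => rfl⟩

theorem dec_map {R : Subgroup Ω} {e : Ω → Ω} (he : IsMap E R e) : Dec F E R e 1 :=
  ⟨one_mem _, e, he, fun _ hx => (autFun_one (he.apply_mem hx)).symm⟩

theorem dec_id {R : Subgroup Ω} (hR : R ≤ T) : Dec F E R id 1 := dec_map (isMap_id hR)

theorem Dec.comp (h : NData F E p) {R Q : Subgroup Ω} {f g : Ω → Ω} {a b : MulAut T}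
    (hf : Dec F E R f a) (hg : Dec F E Q g b) (hm : ∀ x ∈ R, f x ∈ Q) :
    Dec F E R (g ∘ f) (b * a) := by
  obtain ⟨ha, e, he, hfe⟩ := hf
  obtain ⟨hb, e', he', hge⟩ := hg
  have hai := (mem_autGroup h.tS).mp (inv_mem ha)
  obtain ⟨Q', hQ'⟩ := (hai.1.mono he'.dom_le).exists_image
  obtain ⟨e'', he'', hee⟩ := invariant_inv h.invariant he' hai hQ'.2.symm
  have hval : ∀ x ∈ R, autFun a⁻¹ (f x) = e x := fun x hx => by
    rw [hfe x hx, PrimeIndex.autFun_inv_apply a (he.apply_mem hx)]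
  refine ⟨mul_mem hb ha, e'' ∘ e, he.comp he'' (fun x hx => hval x hx ▸ hQ'.mem (hm x hx)),
    fun x hx => ?_⟩
  have h1 := he'.apply_mem (hm x hx)
  simp only [Function.comp_apply]
  rw [← hval x hx, hee _ (hm x hx), autFun_mul b a (PrimeIndex.autFun_mem _ h1), Function.comp_apply,
    PrimeIndex.autFun_apply_inv a h1]
  exact hge _ (hm x hx)

theorem Dec.inv (h : NData F E p) {R Q : Subgroup Ω} {f fi : Ω → Ω} {a : MulAut T}
    (hf : Dec F E R f a) (him : f '' (R : Set Ω) = (Q : Set Ω)) (hl : ∀ x ∈ R, fi (f x) = x) :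
    Dec F E Q fi a⁻¹ := by
  obtain ⟨ha, e, he, hfe⟩ := hf
  obtain ⟨R₁, hR₁⟩ := he.exists_image
  obtain ⟨ei, hei, hel, -⟩ := hR₁.exists_inv
  have hai := (mem_autGroup h.tS).mp ha
  have hQ : (Q : Set Ω) = autFun a '' (R₁ : Set Ω) := by
    rw [← him, ← hR₁.2, Set.image_image]
    exact Set.image_congr hfe
  obtain ⟨g, hg, hge⟩ := invariant_inv h.invariant hei.1 hai hQ
  refine ⟨inv_mem ha, g, hg, fun y hy => ?_⟩
  have hy' : y ∈ f '' (R : Set Ω) := him.symm ▸ hy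
  obtain ⟨x, hx, rfl⟩ := hy'
  rw [hl x hx]
  have hex : e x ∈ R₁ := hR₁.mem hx
  rw [hfe x hx, hge _ hex, hel x hx, PrimeIndex.autFun_inv_apply a (he.dom_le hx)]

/-- Every map of `F` with source in `T` decomposes. -/
theorem exists_dec (h : NData F E p) {R : Subgroup Ω} {f : Ω → Ω} (hf : IsMap F R f) (hR : R ≤ T) :
    ∃ a, Dec F E R f a := by
  obtain ⟨k, e, hk, he, hfe⟩ := invariant_frattini h.invariant hf hR
  obtain ⟨a, ha, hae⟩ := hk.exists_aut
  exact ⟨a, ha, e, he, fun x hx => (hfe x hx).trans (hae (he.apply_mem hx)).symm⟩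

theorem eCentric_mono {R R' : Subgroup Ω} (hR : E.IsCentric R) (hle : R ≤ R') (hR'T : R' ≤ T) :
    E.IsCentric R' := by
  refine ⟨hR'T, fun Q hQ => ?_⟩
  obtain ⟨e, he⟩ := isConj_iff.mp hQ
  obtain ⟨R₁, hR₁⟩ := (he.1.mono hle).exists_image
  have hR₁Q : R₁ ≤ Q := fun y hy => by
    obtain ⟨x, hx, rfl⟩ := hR₁.exists_preimage hy
    exact he.mem (hle hx)
  exact ((inf_le_inf_left _ (Subgroup.centralizer_le hR₁Q)).trans (hR.2 R₁ hR₁.isConj)).trans hR₁Q

variable [Finite S]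

/-- Centricity in `E` is invariant under the maps of `F`. -/
theorem eCentric_image (h : NData F E p) {R R' : Subgroup Ω} {f : Ω → Ω} (hR : E.IsCentric R)
    (hf : IsIso F R R' f) : E.IsCentric R' := by
  have hR'T : R' ≤ T := fun y hy => by
    obtain ⟨x, hx, rfl⟩ := hf.exists_preimage hy
    exact Fusion92.closed_apply h.closed hf.1 hx (hR.1 hx)
  refine ⟨hR'T, fun Q hQ => ?_⟩
  obtain ⟨e, he⟩ := isConj_iff.mp hQ
  obtain ⟨a, ha, e', he', hfe⟩ := exists_dec h (hf.comp ⟨he.1.of_isSubsystemOf h.sub, he.2⟩).1 hR.1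
  have hai := (mem_autGroup h.tS).mp ha
  obtain ⟨R₁, hR₁⟩ := he'.exists_image
  have hR₁Q : ∀ y ∈ R₁, autFun a y ∈ Q := fun y hy => by
    obtain ⟨x, hx, rfl⟩ := hR₁.exists_preimage hy
    rw [← hfe x hx]
    exact he.mem (hf.mem hx)
  intro c hc
  obtain ⟨c', hc', rfl⟩ := hai.exists_preimage hc.1
  refine hR₁Q _ (hR.2 R₁ hR₁.isConj ⟨hc', Subgroup.mem_centralizer_iff.mpr fun y hy => ?_⟩)
  refine hai.1.injOn (T.mul_mem (hR₁.cod_le hy) hc') (T.mul_mem hc' (hR₁.cod_le hy)) ?_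
  rw [hai.1.map_mul (hR₁.cod_le hy) hc', hai.1.map_mul hc' (hR₁.cod_le hy)]
  exact Subgroup.mem_centralizer_iff.mp hc.2 _ (hR₁Q y hy)

theorem eCentric_top (h : NData F E p) : E.IsCentric T :=
  haveI := h.finiteT
  isCentric_self

end Cfsg.Agent.Fusion92.TClass
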