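import Cfsg.Agent.S5203
import Cfsg.Agent.Lib.Fusion.PPowerIndex
import Cfsg.Agent.Lib.Fusion.PPowerNormal
import Cfsg.Agent.PrimeIndex.Saturation

/-!
# Residual limits: existence, and invariance under passing to subsystems of index prime to `p`
-/

set_option autoImplicit false

namespace Cfsg.Agent.Fusion92.TClass

open Cfsg Cfsg.Agent.Fusion
open Cfsg.FusionSystem (normalizerIn centralizerIn)

universe u

variable {Ω : Type u} [Group Ω] {p : ℕ} [Fact p.Prime]

/-- The elements of `p`-power order of the automizers lie in a subsystem of index prime to `p`. -/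
theorem mem_of_primeTo {S : Subgroup Ω} {X M : FusionSystem S} (hM : M.HasPrimeToPIndexIn X p)
    {P : Subgroup Ω} (hP : P ≤ S) {a : MulAut P} (ha : a ∈ X.autGroup P) {k : ℕ}
    (hk : orderOf (⟨a, ha⟩ : X.autGroup P) = p ^ k) : a ∈ M.autGroup P :=
  hM.2 P hP ⟨⟨a, ha⟩, Subgroup.subset_closure ⟨k, hk⟩, rfl⟩

/-- The `p'`-residual of a system is that of its subsystems of index prime to `p`. -/
theorem residual_of_primeTo {S : Subgroup Ω} [Finite S] (hS : IsPGroup p S) {X Y M : FusionSystem S}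
    (hY : Y.IsSaturated p) (hYX : Y.HasPrimeToPIndexIn X p) (hM : X.IsPPrimeResidual p M) :
    Y.IsPPrimeResidual p M := by
  have hMY : M.IsSubsystemOf Y := hM.2.2 Y hY hYX
  refine ⟨hM.1, ⟨hMY, fun P hP => ?_⟩, fun D hD hDY => hM.2.2 D hD ⟨fun P => (hDY.1 P).trans (hYX.1 P), fun P hP => ?_⟩⟩
  · rw [Subgroup.map_le_iff_le_comap, Subgroup.closure_le]
    rintro a ⟨k, hk⟩
    have ha : (a : MulAut P) ∈ X.autGroup P := autGroup_mono (hYX.1 P) a.2
    refine mem_of_primeTo hM.2.1 hP ha (k := k) ?_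
    show orderOf (⟨(a : MulAut P), ha⟩ : X.autGroup P) = p ^ k
    rw [Subgroup.orderOf_mk, Subgroup.orderOf_coe]
    exact hk
  · rw [Subgroup.map_le_iff_le_comap, Subgroup.closure_le]
    rintro a ⟨k, hk⟩
    have hk' : orderOf (⟨(a : MulAut P), a.2⟩ : X.autGroup P) = p ^ k := hk
    have haY : (a : MulAut P) ∈ Y.autGroup P := mem_of_primeTo hYX hP a.2 hk'
    refine mem_of_primeTo hDY hP haY (k := k) ?_
    show orderOf (⟨(a : MulAut P), haY⟩ : Y.autGroup P) = p ^ k
    rw [Subgroup.orderOf_mk, Subgroup.orderOf_coe]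
    exact hk

theorem exists_residual {S : Subgroup Ω} [Finite S] (hS : IsPGroup p S) {X : FusionSystem S}
    (hX : X.IsSaturated p) : ∃ M, X.IsPPrimeResidual p M :=
  ⟨_, PrimeIndex.fdSystem_residual hS hX⟩

theorem hasPrimeToP_self {S : Subgroup Ω} (X : FusionSystem S) : X.HasPrimeToPIndexIn X p :=
  ⟨fun _ => Set.Subset.rfl, fun _ _ => Subgroup.map_subtype_le _⟩

theorem residual_self {S : Subgroup Ω} [Finite S] (hS : IsPGroup p S) {X M : FusionSystem S}
    (hM : X.IsPPrimeResidual p M) : M.IsPPrimeResidual p M :=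
  residual_of_primeTo hS hM.1 hM.2.1 hM

/-- The first step of a residual series. -/
theorem exists_step {S : Subgroup Ω} [Finite S] (hS : IsPGroup p S) {X : FusionSystem S}
    (hX : X.IsSaturated p) :
    ∃ D D' : FusionSystem (X.hyperfocalSubgroup p), X.IsPResidual p D ∧ D.IsPPrimeResidual p D' := by
  obtain ⟨D, hD, hDi⟩ := PPow.exists_pPowerIndex _ S X inferInstance rfl hS hX (X.hyperfocalSubgroup p)
    hyperfocal_le le_rfl
  haveI : Finite (X.hyperfocalSubgroup p) := finite_of_le hyperfocal_le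
  obtain ⟨D', hD'⟩ := exists_residual (hS.to_le hyperfocal_le) hD
  exact ⟨D, D', ⟨hD, hDi⟩, hD'⟩

/-- Residual limits exist. -/
theorem exists_limit : ∀ (n : ℕ) (S : Subgroup Ω) (X : FusionSystem S), Finite S → Nat.card S ≤ n →
    IsPGroup p S → X.IsSaturated p → ∃ (T : Subgroup Ω) (L : FusionSystem T), L.IsResidualLimitOf X p := by
  intro n
  induction n with
  | zero => intro S X hf hn; exact absurd hn (by have := Nat.card_pos (α := S); omega)
  | succ n ih =>
    intro S X hfin hn hS hX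
    obtain ⟨D, D', hD, hD'⟩ := exists_step hS hX
    haveI : Finite (X.hyperfocalSubgroup p) := finite_of_le hyperfocal_le
    have hUp : IsPGroup p (X.hyperfocalSubgroup p) := hS.to_le hyperfocal_le
    by_cases hst : D'.hyperfocalSubgroup p = X.hyperfocalSubgroup p
    · exact ⟨_, D', .step X p D D' hD hD' (.stable D' p hst (residual_self hUp hD'))⟩
    obtain ⟨D₁, D₂, hD₁, hD₂⟩ := exists_step hUp hD'.1
    haveI : Finite (D'.hyperfocalSubgroup p) := finite_of_le hyperfocal_le
    have hlt : Nat.card (D'.hyperfocalSubgroup p) < Nat.card S := by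
      refine lt_of_lt_of_le ?_ (Subgroup.card_le_of_le (hyperfocal_le : X.hyperfocalSubgroup p ≤ S))
      exact lt_of_le_of_ne (Subgroup.card_le_of_le hyperfocal_le) fun he =>
        hst (Subgroup.eq_of_le_of_card_ge hyperfocal_le he.ge)
    obtain ⟨T, L, hL⟩ := ih _ D₂ inferInstance (by omega) (hUp.to_le hyperfocal_le) hD₂.1
    exact ⟨T, L, .step X p D D' hD hD' (.step D' p D₁ D₂ hD₁ hD₂ hL)⟩

/-- A residual limit is a subsystem. -/
theorem limit_sub {S T : Subgroup Ω} {X : FusionSystem S} {L : FusionSystem T}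
    (h : L.IsResidualLimitOf X p) : L.IsSubsystemOf X := by
  induction h with
  | stable => exact fun _ => Set.Subset.rfl
  | step F p D D' hD hD' _ ih =>
    exact fun P => ((ih P).trans (hD'.2.1.1 P)).trans (hD.2.1 P)

/-- A system and its `p'`-residual have the same residual limits. -/
theorem limit_residual : ∀ (n : ℕ) (S : Subgroup Ω) (X M : FusionSystem S), Finite S →
    Nat.card S = n → IsPGroup p S → X.IsSaturated p → X.IsPPrimeResidual p M →
    ∀ (T : Subgroup Ω) (L : FusionSystem T), L.IsResidualLimitOf X p →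
    ∀ (T' : Subgroup Ω) (L' : FusionSystem T'), L'.IsResidualLimitOf M p →
      ∀ P, L.Hom P = L'.Hom P := by
  intro n
  induction n using Nat.strong_induction_on with
  | _ n ih =>
  intro S X M hfin hn hS hX hM T L hL T' L' hL'
  cases hL with
  | stable _ _ h h' =>
    obtain rfl : M = X := S5203.least_unique hM h'
    exact S5203.limit_unique (.stable M p h h') hS hX L' hL'
  | step _ _ D D' hD hD' hrest =>
    haveI : Finite (X.hyperfocalSubgroup p) := finite_of_le hyperfocal_le
    have hUS : (X.hyperfocalSubgroup p) ≤ S := hyperfocal_le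
    have hUp : IsPGroup p (X.hyperfocalSubgroup p) := hS.to_le hUS
    by_cases hUeq : (X.hyperfocalSubgroup p) = S
    · have he : ∀ P, D.Hom P = X.Hom P :=
        S5203.eq_of_pPower hS hUeq hD.1 hX hD.2 S5203.pPower_self hUS
      obtain ⟨M', hM', hl⟩ : ∃ M', X.IsPPrimeResidual p M' ∧ L.IsResidualLimitOf M' p :=
        S5203.transfer hUeq he (fun H Y => ∃ M' : FusionSystem H, Y.IsPPrimeResidual p M' ∧
          L.IsResidualLimitOf M' p) ⟨D', hD', hrest⟩
      obtain rfl : M' = M := S5203.least_unique hM' hM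
      exact S5203.limit_unique hl hS hM.1 L' hL'
    have hUn : ((X.hyperfocalSubgroup p).subgroupOf S).Normal :=
      (Subgroup.normal_subgroupOf_iff_le_normalizer hUS).mpr hyperfocal_normalizer
    have hMU : M.hyperfocalSubgroup p ≤ (X.hyperfocalSubgroup p) := PPow.hyperfocal_mono le_rfl hM.2.1.1
    obtain ⟨M₁, hM₁, hM₁i⟩ := PPow.exists_pPowerIndex _ S M hfin rfl hS hM.1 (X.hyperfocalSubgroup p) hUS hMU
    have hM₁n := PPow.isNormalIn_of_pPowerIndex hS hM.1 hUS hUn hM₁ hM₁i
    have hM₁X : M₁.IsSubsystemOf X := fun P => (hM₁i.1 P).trans (hM.2.1.1 P)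
    have hsub : M₁.IsSubsystemOf D := Fusion91.le_of_pResidual_le (F := X) hUp hM₁ hM₁X hD.2.2.2
    have hidx : M₁.HasPrimeToPIndexIn D p := by
      refine ⟨hsub, fun P hP => ?_⟩
      rw [Subgroup.map_le_iff_le_comap, Subgroup.closure_le]
      rintro a ⟨k, hk⟩
      show (a : MulAut P) ∈ M₁.autGroup P
      have hPS := hP.trans hUS
      have haX : (a : MulAut P) ∈ X.autGroup P := autGroup_mono (hD.2.1 P) a.2
      have haM : (a : MulAut P) ∈ M.autGroup P := by
        refine mem_of_primeTo hM.2.1 hPS haX (k := k) ?_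
        rw [Subgroup.orderOf_mk, Subgroup.orderOf_coe]; exact hk
      -- pass to a conjugate maximising the normalizer in `(X.hyperfocalSubgroup p)`
      obtain ⟨R, hR, hRn⟩ := exists_fullyNormalized (F := M) hPS
      obtain ⟨θ, hθ, hθP, -⟩ := exists_normalizer_map hS (fullyAutomized_of_fullyNormalized hS hM.1 hRn)
        (receptive_of_fullyNormalized hS hM.1 hRn) hR
      have hUcl : X.StronglyClosed (X.hyperfocalSubgroup p) := hyperfocal_stronglyClosed hS hX
      have hPN : P ≤ normalizerIn S P := le_normalizerIn hPS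
      have hRU : R ≤ (X.hyperfocalSubgroup p) := fun y hy => by
        obtain ⟨x, hx, rfl⟩ := hθP.exists_preimage hy
        exact Fusion92.closed_apply hUcl (hθ.of_isSubsystemOf hM.2.1.1) (hPN hx) (hP hx)
      have hRD : D.IsFullyNormalized R := by
        refine ⟨hRU, fun Q hQ => ?_⟩
        obtain ⟨f, hf⟩ := isConj_iff.mp hQ
        obtain ⟨α, g, hα, hg, he⟩ := PrimeToP.factors_all hS hX (hf.1.of_isSubsystemOf hD.2.1)
        obtain ⟨Q', hQ'⟩ := hg.isMap.exists_image
        have hgM : IsIso M R Q' g := by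
          refine ⟨hg.isMap_of fun W hW b hb hk => ?_, hQ'.2⟩
          obtain ⟨j, hj⟩ := hk
          obtain ⟨i, -, hi⟩ := (Nat.dvd_prime_pow (Fact.out : p.Prime)).mp
            (orderOf_dvd_of_pow_eq_one (show (⟨b, hb⟩ : X.autGroup W) ^ p ^ j = 1 from Subtype.ext hj))
          exact mem_of_primeTo hM.2.1 hW.1 hb hi
        obtain ⟨η, hη, hηQ, -⟩ := exists_normalizer_map hS (fullyAutomized_of_fullyNormalized hS hM.1 hRn)
          (receptive_of_fullyNormalized hS hM.1 hRn) (isConj_symm hgM.isConj)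
        obtain ⟨αi, hαi, hαl, -⟩ := hα.exists_inv
        have him : αi '' (Q : Set Ω) = (Q' : Set Ω) := by
          rw [← hf.2, ← hQ'.2, Set.image_image]
          exact Set.image_congr fun x hx => by
            rw [he hx, Function.comp_apply, hαl _ (hg.isMap.apply_mem hx)]
        have hQS : Q ≤ S := hf.cod_le.trans hUS
        haveI := finite_of_le ((Fusion.normalizerIn_le (X.hyperfocalSubgroup p) R).trans hUS)
        refine card_le_of_injOn (f := η ∘ αi) ((Fusion.normalizerIn_le _ _).trans hUS) ?_ ?_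
        · intro x hx y hy hxy
          have hmem : ∀ z ∈ normalizerIn (X.hyperfocalSubgroup p) Q, αi z ∈ normalizerIn S Q' := fun z hz =>
            Fusion.map_mem_normalizer hαi.1 hQS him (hUS hz.1) hz.2
          exact hαi.1.injOn (hUS hx.1) (hUS hy.1) (hη.injOn (hmem x hx) (hmem y hy) hxy)
        · intro x hx
          have h1 : αi x ∈ normalizerIn S Q' := Fusion.map_mem_normalizer hαi.1 hQS him (hUS hx.1) hx.2
          have h2 : αi x ∈ (X.hyperfocalSubgroup p) := Fusion92.closed_apply hUcl hαi.1 (hUS hx.1) hx.1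
          exact ⟨Fusion92.closed_apply hUcl (hη.of_isSubsystemOf hM.2.1.1) h1 h2,
            (Fusion.map_mem_normalizer hη (le_normalizerIn hgM.cod_le) hηQ.2 h1 h1.2).2⟩
      -- the conjugate of `a` is induced by `(X.hyperfocalSubgroup p)`
      haveI := finite_of_le hPS
      haveI := finite_of_le hRn.1
      haveI := finite_mulAut R
      have hθX : IsIso X P R θ := ⟨hθP.1.of_isSubsystemOf hM.2.1.1, hθP.2⟩
      set b : MulAut R := MulAut.congr hθP.equiv (a : MulAut P) with hb
      have hbM : b ∈ M.autGroup R := by rw [← autGroup_map_congr hθP]; exact ⟨_, haM, rfl⟩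
      have hDn : D.IsNormalIn X p := PPow.isNormalIn_of_pPowerIndex hS hX hUS hUn hD.1 hD.2
      have hbD : b ∈ D.autGroup R := by
        have hai := (mem_autGroup hP).mp a.2
        obtain ⟨χ, hχ, hχe⟩ := strongInv_of_invariant hDn.1.2.2 P R P (autFun (a : MulAut P)) θ le_rfl hP
          hai.1 (fun x hx => hai.mem hx) hθX.1 hθX
        refine autGroup_mem_of_isMap (hχ.congr fun y hy => ?_)
        obtain ⟨x, hx, rfl⟩ := hθP.exists_preimage hy
        rw [hχe x hx, hb, NormalLift.autFun_congr hθP (a : MulAut P) hx]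
      have hbo : orderOf (⟨b, hbD⟩ : D.autGroup R) = p ^ k := by
        rw [Subgroup.orderOf_mk, hb, MulEquiv.orderOf_eq, Subgroup.orderOf_coe]; exact hk
      -- `b` lies in a conjugate-invariant Sylow subgroup
      obtain ⟨Y, hY⟩ := (fullyAutomized_of_fullyNormalized hUp hD.1 hRD).2
      obtain ⟨Z, hZ⟩ := (fullyAutomized_of_fullyNormalized hS hM.1 hRn).2
      obtain ⟨V, hV⟩ := (IsPGroup.of_card (p := p) (n := k)
        (by rw [Nat.card_zpowers, Subgroup.orderOf_mk, hb, MulEquiv.orderOf_eq, Subgroup.orderOf_coe]; exact hk) :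
          IsPGroup p (Subgroup.zpowers (⟨b, hbM⟩ : M.autGroup R))).exists_le_sylow
      obtain ⟨χ, hχ⟩ := MulAction.exists_smul_eq (M.autGroup R) V Z
      have hmem : χ * ⟨b, hbM⟩ * χ⁻¹ ∈ (Z : Subgroup (M.autGroup R)) := by
        rw [← hχ, Sylow.coe_subgroup_smul]
        exact ⟨_, hV (Subgroup.mem_zpowers _), rfl⟩
      rw [hZ, Subgroup.mem_subgroupOf, ← range_conjAutHom] at hmem
      obtain ⟨⟨s, hs⟩, hse⟩ := hmem
      have hcD : conjAutHom S R ⟨s, hs⟩ ∈ D.autGroup R := by
        rw [hse]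
        have hχX : ((χ : M.autGroup R) : MulAut R) ∈ X.autGroup R := autGroup_mono (hM.2.1.1 R) χ.2
        exact NormalLift.autGroup_conj_mem (F := X) ⟨hS, hX, hDn⟩ hRU hbD hχX
      -- it normalizes the Sylow subgroup induced by `(X.hyperfocalSubgroup p)`
      have hcU : (⟨_, hcD⟩ : D.autGroup R) ∈ (Y : Subgroup (D.autGroup R)) := by
        have hp : IsPGroup p (Subgroup.zpowers (⟨_, hcD⟩ : D.autGroup R)) := by
          refine IsPGroup.of_card (n := k) ?_
          rw [Nat.card_zpowers, Subgroup.orderOf_mk, hse]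
          show orderOf ((χ : MulAut R) * b * (χ : MulAut R)⁻¹) = _
          rw [← MulAut.conj_apply, MulEquiv.orderOf_eq, hb, MulEquiv.orderOf_eq, Subgroup.orderOf_coe]
          exact hk
        have hnorm : Subgroup.zpowers (⟨_, hcD⟩ : D.autGroup R) ≤
            Subgroup.normalizer ((Y : Subgroup (D.autGroup R)) : Set (D.autGroup R)) := by
          refine (Subgroup.zpowers_le).mpr (Subgroup.mem_normalizer_fintype fun y hy => ?_)
          rw [hY, SetLike.mem_coe, Subgroup.mem_subgroupOf, ← range_conjAutHom] at hy ⊢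
          obtain ⟨⟨u, hu⟩, hue⟩ := hy
          refine ⟨⟨s * u * s⁻¹, ?_, ?_⟩, ?_⟩
          · exact Fusion92.conj_mem_closed hUcl hs.1 hu.1
          · exact Subgroup.mul_mem _ (Subgroup.mul_mem _ hs.2 hu.2) (Subgroup.inv_mem _ hs.2)
          · rw [Subgroup.coe_mul, Subgroup.coe_mul, Subgroup.coe_inv, ← hue]
            show _ = conjAutHom S R ⟨s, hs⟩ * conjAutHom (X.hyperfocalSubgroup p) R ⟨u, hu⟩ * (conjAutHom S R ⟨s, hs⟩)⁻¹
            rw [eq_mul_inv_iff_mul_eq]
            refine MulEquiv.ext fun z => Subtype.ext ?_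
            show s * u * s⁻¹ * (s * (z : Ω) * s⁻¹) * (s * u * s⁻¹)⁻¹ = s * (u * (z : Ω) * u⁻¹) * s⁻¹
            group
        have h2 : IsPGroup p ((Subgroup.zpowers (⟨_, hcD⟩ : D.autGroup R)) ⊔ (Y : Subgroup (D.autGroup R)) : Subgroup (D.autGroup R)) :=
          hp.to_sup_of_normal_right' Y.isPGroup' hnorm
        exact (Y.is_maximal' h2 le_sup_right).le (Subgroup.mem_sup_left (Subgroup.mem_zpowers _))
      rw [hY, Subgroup.mem_subgroupOf] at hcU
      have hc₁ : conjAutHom S R ⟨s, hs⟩ ∈ M₁.autGroup R := autInducedBy_le_autGroup hRU hcU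
      rw [hse] at hc₁
      have hb₁ : b ∈ M₁.autGroup R := by
        have := NormalLift.autGroup_conj_mem (F := M) ⟨hS, hM.1, hM₁n⟩ hRU hc₁ (inv_mem χ.2)
        simpa [mul_assoc] using this
      -- back to `P`
      obtain ⟨θi, hθi, hθl, -⟩ := hθP.exists_inv
      have hbi := (mem_autGroup hRU).mp hb₁
      obtain ⟨ψ, hψ, hψe⟩ := strongInv_of_invariant hM₁n.1.2.2 R P R (autFun b) θi le_rfl hRU hbi.1
        (fun x hx => hbi.mem hx) hθi.1 hθi
      refine autGroup_mem_of_isMap (hψ.congr fun x hx => ?_)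
      have h1 := hψe (θ x) (hθP.mem hx)
      rw [hθl x hx, hb, NormalLift.autFun_congr hθP (a : MulAut P) hx,
        hθl _ (PrimeIndex.autFun_mem _ hx)] at h1
      exact h1
    -- conclusion
    have hres : M₁.IsPPrimeResidual p D' := residual_of_primeTo hUp hM₁ hidx hD'
    obtain ⟨V, L'', hL''⟩ := exists_limit _ (X.hyperfocalSubgroup p) M₁ inferInstance le_rfl hUp hM₁
    have hlt : Nat.card (X.hyperfocalSubgroup p) < n := by
      rw [← hn]
      exact lt_of_le_of_ne (Subgroup.card_le_of_le hUS) fun he =>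
        hUeq (Subgroup.eq_of_le_of_card_ge hUS he.ge)
    have e₁ := ih _ hlt (X.hyperfocalSubgroup p) M₁ D' inferInstance rfl hUp hM₁ hres _ L'' hL'' _ L hrest
    have e₂ := S5203.result p hS M hM.1 M₁ hM₁n hM₁i L' hL' L'' hL''
    intro P
    exact (e₁ P).symm.trans (e₂ P).symm

/-- A system and a saturated subsystem of index prime to `p` have the same residual limits. -/
theorem limit_primeTo {S : Subgroup Ω} [Finite S] (hS : IsPGroup p S) {X Y : FusionSystem S}
    (hX : X.IsSaturated p) (hY : Y.IsSaturated p) (hYX : Y.HasPrimeToPIndexIn X p)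
    {T : Subgroup Ω} {L : FusionSystem T} (hL : L.IsResidualLimitOf X p)
    {T' : Subgroup Ω} {L' : FusionSystem T'} (hL' : L'.IsResidualLimitOf Y p) :
    ∀ P, L.Hom P = L'.Hom P := by
  obtain ⟨M, hM⟩ := exists_residual hS hX
  obtain ⟨T'', L'', hL''⟩ := exists_limit _ S M inferInstance le_rfl hS hM.1
  intro P
  rw [limit_residual _ S X M inferInstance rfl hS hX hM _ L hL _ L'' hL'' P,
    limit_residual _ S Y M inferInstance rfl hS hY (residual_of_primeTo hS hY hYX hM) _ L' hL' _ L'' hL'' P]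

end Cfsg.Agent.Fusion92.TClass
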