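import Cfsg.Agent.Fusion92.TClass.Class
import Cfsg.Agent.Fusion92.Congruence
import Cfsg.Agent.Lib.Fusion.PPowerNormal
import Cfsg.Agent.Lib.Fusion.PPowerIndex
import Cfsg.Agent.Lib.Fusion.NormalCentralizerMain
import Cfsg.Agent.Fus93.NormalFocal
import Cfsg.Agent.S5199

/-!
# The subsystem of `p`-power index given by a subgroup of `Aut_F(T)`
-/

set_option autoImplicit false

namespace Cfsg.Agent.Fusion92.TClass

open Cfsg Cfsg.Agent.Fusion Cfsg.Agent.Fusion.NormalLift
open Cfsg.FusionSystem (normalizerIn centralizerIn)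

universe u

variable {Ω : Type u} [Group Ω] {S T : Subgroup Ω} {F : FusionSystem S} {E : FusionSystem T} {p : ℕ}
  {K : Subgroup (MulAut T)}

/-- A normal subgroup of `p`-power index of `Aut_F(T)` containing `Aut_E(T)`. -/
structure PData (F : FusionSystem S) (E : FusionSystem T) (p : ℕ) (K : Subgroup (MulAut T)) :
    Prop where
  nd : NData F E p
  le : K ≤ F.autGroup T
  ge : E.autGroup T ≤ K
  normal : ∀ a ∈ K, ∀ c ∈ F.autGroup T, c * a * c⁻¹ ∈ K
  pPower : ∀ a ∈ F.autGroup T, (orderOf a).Coprime p → a ∈ K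

/-- The elements of `S` acting on `T` as elements of `K`. -/
def preK (S T : Subgroup Ω) (K : Subgroup (MulAut T)) : Subgroup Ω :=
  (K.comap (conjAutHom S T)).map (normalizerIn S T).subtype

theorem preK_le : preK S T K ≤ S := (Subgroup.map_subtype_le _).trans inf_le_left

variable [Finite S] [Fact p.Prime]

theorem mem_preK (h : NData F E p) {s : Ω} (hs : s ∈ S) :
    s ∈ preK S T K ↔ conjAutHom S T ⟨s, hs, h.s_le hs⟩ ∈ K :=
  ⟨by rintro ⟨⟨s', hs'⟩, hK, rfl⟩; exact hK, fun hK => ⟨⟨s, hs, h.s_le hs⟩, hK, rfl⟩⟩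

theorem conjT_mem (h : NData F E p) {s : Ω} (hs : s ∈ S) :
    conjAutHom S T ⟨s, hs, h.s_le hs⟩ ∈ F.autGroup T :=
  autInducedBy_le_autGroup h.tS (by rw [← range_conjAutHom]; exact ⟨_, rfl⟩)

theorem t_le_preK (h : PData F E p K) : T ≤ preK S T K := fun t ht => by
  refine (mem_preK h.nd (h.nd.tS ht)).mpr (h.ge ?_)
  refine inn_le_autGroup (F := E) le_rfl (mem_inn.mpr ⟨t, ht, fun x => ?_⟩)
  rfl

theorem cent_le_preK (h : NData F E p) : centralizerIn S T ≤ preK S T K := fun s hs => by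
  refine (mem_preK h hs.1).mpr ?_
  rw [show conjAutHom S T ⟨s, hs.1, h.s_le hs.1⟩ = 1 from MulEquiv.ext fun x => Subtype.ext (by
    show s * (x : Ω) * s⁻¹ = x
    rw [← Subgroup.mem_centralizer_iff.mp hs.2 _ x.2, mul_inv_cancel_right])]
  exact one_mem _

theorem preK_normal (h : PData F E p K) : ((preK S T K).subgroupOf S).Normal := by
  refine (Subgroup.normal_subgroupOf_iff preK_le).mpr fun x g hx hg => ?_
  have hxS := preK_le hx
  have hgS : g * x * g⁻¹ ∈ S := S.mul_mem (S.mul_mem hg hxS) (S.inv_mem hg)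
  refine (mem_preK h.nd hgS).mpr ?_
  have := h.normal _ ((mem_preK h.nd hxS).mp hx) _ (conjT_mem h.nd hg)
  rwa [← map_inv, ← map_mul, ← map_mul] at this

theorem hyperfocal_le_preK (h : PData F E p K) : F.hyperfocalSubgroup p ≤ preK S T K := by
  refine (Subgroup.closure_le _).mpr ?_
  rintro _ ⟨P, α, x, hP, hα, rfl⟩
  haveI : Finite P := finite_of_le hP
  haveI := finite_mulAut P
  suffices key : ∀ x : P, ((x⁻¹ * (α : MulAut P) x : P) : Ω) ∈ preK S T K from key x
  revert x
  induction hα using Subgroup.closure_induction with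
  | one => intro _ x; simp
  | mul a b _ _ iha ihb =>
    intro _ x
    have := Subgroup.mul_mem _ (ihb 1 x) (iha 1 ((b : MulAut P) x))
    simpa [mul_assoc] using this
  | inv a _ iha =>
    intro _ x
    have := Subgroup.inv_mem _ (iha 1 ((a : MulAut P).symm x))
    simpa using this
  | mem α hα =>
    intro _ x
    have hαi := (mem_autGroup hP).mp α.2
    obtain ⟨f, hf, hfm⟩ := Fusion92.exists_map_mod h.nd.pgroup h.nd.sat h.nd.closed hαi.1
    set M := P ⊔ T with hM
    have hMS : M ≤ S := sup_le hP h.nd.tS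
    haveI := finite_of_le hMS
    haveI := finite_mulAut M
    have hMn : M ≤ Subgroup.normalizer (T : Set Ω) := hMS.trans h.nd.s_le
    have hfM : ∀ z ∈ M, f z ∈ M := isMap_mem_sup hf le_sup_left le_sup_right
      (fun z hz => by
        rw [show f z = autFun (α : MulAut P) z * ((autFun (α : MulAut P) z)⁻¹ * f z) by group]
        exact Subgroup.mul_mem_sup (hαi.mem hz) (hfm z hz))
      fun z hz => Subgroup.mem_sup_right (Fusion92.closed_apply h.nd.closed hf (Subgroup.mem_sup_right hz) hz)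
    obtain ⟨a, ha, hae⟩ := (isIso_of_mapsTo hf hMS hfM le_rfl).exists_aut
    obtain ⟨m, hm, hαm⟩ := exists_pow_coprime (p := p) a (α : MulAut P) (by rwa [Subgroup.orderOf_coe])
    have hai := (mem_autGroup hMS).mp ha
    have hit : ∀ j : ℕ, ∀ z ∈ P, (autFun ((α : MulAut P) ^ j) z)⁻¹ * autFun (a ^ j) z ∈ T := by
      intro j
      induction j with
      | zero =>
        intro z hz
        rw [pow_zero, pow_zero, autFun_one hz, autFun_one (Subgroup.mem_sup_left hz : z ∈ M)]
        simp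
      | succ j ihj =>
        intro z hz
        have hy : autFun ((α : MulAut P) ^ j) z ∈ P := PrimeIndex.autFun_mem _ hz
        have ht := ihj z hz
        have htM : (autFun ((α : MulAut P) ^ j) z)⁻¹ * autFun (a ^ j) z ∈ M := Subgroup.mem_sup_right ht
        rw [pow_succ', pow_succ', autFun_mul _ _ hz, autFun_mul _ _ (Subgroup.mem_sup_left hz : z ∈ M),
          Function.comp_apply, Function.comp_apply,
          show autFun (a ^ j) z =
            autFun ((α : MulAut P) ^ j) z * ((autFun ((α : MulAut P) ^ j) z)⁻¹ * autFun (a ^ j) z) by group,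
          hai.1.map_mul (Subgroup.mem_sup_left hy) htM, ← mul_assoc]
        refine T.mul_mem ?_ (Fusion92.closed_apply h.nd.closed hai.1 htM ht)
        rw [hae (Subgroup.mem_sup_left hy : _ ∈ M)]
        exact hfm _ hy
    set c := a ^ m with hc
    have hcF : c ∈ F.autGroup M := (F.autGroup M).pow_mem ha m
    have hci := (mem_autGroup hMS).mp hcF
    have hcT : IsIso F T T (autFun c) :=
      isIso_of_mapsTo (hci.1.mono le_sup_right) h.nd.tS
        (fun z hz => Fusion92.closed_apply h.nd.closed hci.1 (Subgroup.mem_sup_right hz) hz) le_rfl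
    obtain ⟨k, hk, hke⟩ := hcT.exists_aut
    haveI := h.nd.finiteT
    haveI := finite_mulAut T
    have hkK : k ∈ K := by
      refine h.pPower k hk (hm.coprime_dvd_left (orderOf_dvd_of_pow_eq_one ?_))
      have hit' : ∀ j : ℕ, ∀ z ∈ T, autFun (k ^ j) z = autFun (c ^ j) z := by
        intro j
        induction j with
        | zero => intro z hz; rw [pow_zero, pow_zero, autFun_one hz, autFun_one (Subgroup.mem_sup_right hz : z ∈ M)]
        | succ j ihj =>
          intro z hz
          rw [pow_succ', pow_succ', autFun_mul _ _ hz, autFun_mul _ _ (Subgroup.mem_sup_right hz : z ∈ M),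
            Function.comp_apply, Function.comp_apply, ← ihj z hz]
          exact hke (PrimeIndex.autFun_mem _ hz)
      refine MulEquiv.ext fun z => Subtype.ext ?_
      rw [← autFun_coe, hit' _ z z.2, pow_orderOf_eq_one, autFun_one (Subgroup.mem_sup_right z.2 : (z : Ω) ∈ M)]
      rfl
    have hxM : (x : Ω) ∈ M := Subgroup.mem_sup_left x.2
    have hxS : (x : Ω) ∈ S := hP x.2
    set y := autFun c (x : Ω) with hy
    have hyS : y ∈ S := hci.1.apply_mem hxM
    have hconj : conjAutHom S T ⟨y, hyS, h.nd.s_le hyS⟩ =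
        k * conjAutHom S T ⟨x, hxS, h.nd.s_le hxS⟩ * k⁻¹ := by
      refine eq_mul_inv_of_mul_eq (MulEquiv.ext fun z => Subtype.ext ?_)
      show y * ((k z : T) : Ω) * y⁻¹ = ((k _ : T) : Ω)
      rw [← autFun_coe k, ← autFun_coe k, hke z.2]
      refine Eq.trans ?_ (hke (h.nd.conj_t hxS z.2)).symm
      rw [hci.1.map_conj hxM (Subgroup.mem_sup_right z.2)]
    have ht := hit m x x.2
    rw [hαm, ← hc, ← hy, autFun_coe] at ht
    rw [Subgroup.coe_mul, Subgroup.coe_inv,
      show (x : Ω)⁻¹ * ((α : MulAut P) x : Ω) =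
        ((x : Ω)⁻¹ * y) * ((((α : MulAut P) x : P) : Ω)⁻¹ * y)⁻¹ by group]
    refine Subgroup.mul_mem _ ?_ (Subgroup.inv_mem _ (t_le_preK h ht))
    have hxy : (x : Ω)⁻¹ * y ∈ S := S.mul_mem (S.inv_mem hxS) hyS
    refine (mem_preK h.nd hxy).mpr ?_
    rw [show (⟨(x : Ω)⁻¹ * y, hxy, h.nd.s_le hxy⟩ : normalizerIn S T) =
      (⟨(x : Ω), hxS, h.nd.s_le hxS⟩ : normalizerIn S T)⁻¹ * ⟨y, hyS, h.nd.s_le hyS⟩ from rfl,
      map_mul, map_inv, hconj]
    set d := conjAutHom S T ⟨x, hxS, h.nd.s_le hxS⟩ with hd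
    have h1 := h.normal k hkK d⁻¹ (inv_mem (conjT_mem h.nd hxS))
    rw [inv_inv] at h1
    rw [show d⁻¹ * (k * d * k⁻¹) = d⁻¹ * k * d * k⁻¹ by group]
    exact K.mul_mem h1 (K.inv_mem hkK)

set_option maxHeartbeats 800000 in
/-- The subsystem of `p`-power index over the preimage of `K`. -/
theorem exists_pStep (h : PData F E p K) :
    ∃ F₂ : FusionSystem (preK S T K), F₂.IsSaturated p ∧ F₂.HasPPowerIndexIn F p ∧ F₂.IsNormalIn F p ∧
      E.IsNormalIn F₂ p ∧ F₂.autGroup T ≤ K := by
  have hS := h.nd.pgroup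
  have hF := h.nd.sat
  have hTU := t_le_preK h
  obtain ⟨F₂, hsat, hidx⟩ := PPow.exists_pPowerIndex _ S F inferInstance rfl hS hF (preK S T K) preK_le
    (hyperfocal_le_preK h)
  haveI := finite_of_le (preK_le : preK S T K ≤ S)
  have hUp : IsPGroup p (preK S T K) := hS.to_le preK_le
  have hn := PPow.isNormalIn_of_pPowerIndex hS hF preK_le (preK_normal h) hsat hidx
  have hsub : E.IsSubsystemOf F₂ :=
    S5199.result p hS F hF E h.nd.normal F₂ hn (sup_le hTU (hyperfocal_le_preK h)) hidx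
  have hcl : F₂.StronglyClosed T :=
    ⟨hTU, fun R hR φ hφ x => h.nd.closed.2 R hR φ (hidx.1 R hφ) x⟩
  have hinv : StrongInv E F₂ := fun P P' Q φ ψ hPQ hQT hφ hφQ hψ hψP =>
    h.nd.strongInv P P' Q φ ψ hPQ hQT hφ hφQ (hψ.of_isSubsystemOf hidx.1)
      ⟨hψP.1.of_isSubsystemOf hidx.1, hψP.2⟩
  have hC : centralizerIn (preK S T K) T = centralizerIn S T :=
    le_antisymm (inf_le_inf_right _ preK_le) (le_inf (cent_le_preK h.nd) inf_le_right)
  set D := T ⊔ centralizerIn S T with hD
  have hDS : D ≤ S := sup_le h.nd.tS (Fusion.centralizerIn_le _ _)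
  have hDU : D ≤ preK S T K := sup_le hTU (cent_le_preK h.nd)
  haveI := finite_of_le hDS
  haveI := finite_mulAut D
  haveI := h.nd.finiteT
  haveI := finite_mulAut T
  have hext : ∀ α ∈ E.autGroup T, Lift F₂ α := by
    obtain ⟨Y, hY⟩ := (fullyAutomized_of_fullyNormalized h.nd.tp h.nd.eSat fullyNormalized_self).2
    let L : Subgroup (E.autGroup T) :=
      { carrier := {a | Lift F₂ (a : MulAut T)}
        one_mem' := lift_one
        mul_mem' := fun ha hb => lift_mul hTU ha hb
        inv_mem' := fun {a} ha => by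
          have e : a⁻¹ = a ^ (orderOf a - 1) := by
            rw [inv_eq_iff_mul_eq_one, ← pow_succ', Nat.sub_add_cancel (orderOf_pos a), pow_orderOf_eq_one]
          show Lift F₂ ((a⁻¹ : E.autGroup T) : MulAut T)
          rw [e, Subgroup.coe_pow]
          exact lift_pow hTU ha _ }
    have hL : L = ⊤ := by
      refine eq_top_of_sylow_coprime Y L (fun a ha => ?_) fun a ha => ?_
      · rw [hY, Subgroup.mem_subgroupOf, mem_autInducedBy] at ha
        obtain ⟨t, ht, hta⟩ := ha
        show Lift F₂ (a : MulAut T)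
        unfold Lift
        rw [hC]
        have htN : t ∈ normalizerIn (preK S T K) D :=
          ⟨hTU ht, Subgroup.le_normalizer (Subgroup.mem_sup_left ht : t ∈ D)⟩
        refine ⟨conjAutHom _ D ⟨t, htN⟩, autInducedBy_le_autGroup hDU
          (by rw [← range_conjAutHom]; exact ⟨_, rfl⟩), fun x hx => ?_, fun c hc => ?_⟩
        · rw [autFun_of_mem _ hx, hta ⟨x, hx⟩, autFun_of_mem _ (Subgroup.mem_sup_left hx : x ∈ D)]
          rfl
        · rw [autFun_of_mem _ (Subgroup.mem_sup_right hc : c ∈ D)]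
          show c⁻¹ * (t * c * t⁻¹) ∈ T
          rw [Subgroup.mem_centralizer_iff.1 hc.2 t ht, mul_assoc c, mul_inv_cancel, mul_one, inv_mul_cancel]
          exact T.one_mem
      · obtain ⟨γ, hγ, hγT, hγC⟩ := h.nd.normal.2 _ a.2
        have hγe : Set.EqOn (autFun γ) (autFun (a : MulAut T)) T := fun x hx => by
          rw [autFun_of_mem γ (Subgroup.mem_sup_left hx), autFun_of_mem _ hx]
          exact hγT ⟨x, hx⟩
        have hγc : ∀ c ∈ centralizerIn S T, c⁻¹ * autFun γ c ∈ T := fun c hc => by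
          rw [autFun_of_mem γ (Subgroup.mem_sup_right hc)]
          exact (hγC ⟨c, Subgroup.mem_sup_right hc⟩ hc).1
        have hγR : ∀ x ∈ T, autFun γ x ∈ T := fun x hx => by
          rw [hγe hx]; exact PrimeIndex.autFun_mem _ hx
        obtain ⟨m, hm, ham⟩ := exists_pow_coprime (p := p) (⟨γ, hγ⟩ : F.autGroup D) (a : MulAut T)
          (by rwa [Subgroup.orderOf_coe])
        have hmem : γ ^ m ∈ F₂.autGroup D := hidx.2.2 D hDU
          ⟨⟨γ, hγ⟩ ^ m, Transfer.mem_pResidual_of_coprime hm, rfl⟩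
        show Lift F₂ (a : MulAut T)
        unfold Lift
        rw [hC]
        refine ⟨γ ^ m, hmem, ?_, (Fus93.NormalFocal.pow_defect h.nd.tS hγ hγR hγc m).2⟩
        have hit : ∀ j : ℕ, ∀ x ∈ T, autFun (γ ^ j) x = autFun ((a : MulAut T) ^ j) x := by
          intro j
          induction j with
          | zero => intro x hx; rw [pow_zero, pow_zero, autFun_one hx, autFun_one (Subgroup.mem_sup_left hx : x ∈ D)]
          | succ j ihj =>
            intro x hx
            rw [pow_succ', pow_succ', autFun_mul _ _ hx, autFun_mul _ _ (Subgroup.mem_sup_left hx : x ∈ D),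
              Function.comp_apply, Function.comp_apply, ihj x hx]
            exact hγe (PrimeIndex.autFun_mem _ hx)
        intro x hx
        rw [hit m x hx, ham]
    exact fun α hα => (hL.ge (Subgroup.mem_top (⟨α, hα⟩ : E.autGroup T)) : _)
  have hnE : E.IsNormalIn F₂ p := by
    refine Fus93.isNormalIn_of ⟨h.nd.eSat, hsat, invariant_of_strongInv hUp hsat hsub hcl hinv⟩
      fun k hk => ?_
    obtain ⟨α, hα, hαe⟩ := hk.exists_aut
    obtain ⟨γ, hγ, hγe, hγc⟩ := hext α hα
    have hγi := (mem_autGroup (sup_le hTU (Fusion.centralizerIn_le _ _))).mp hγ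
    refine ⟨autFun γ, hγi, fun x hx => (hγe hx).trans (hαe hx), fun c hc => ⟨hγc c hc, ?_⟩⟩
    exact Subgroup.mul_mem _ (Subgroup.inv_mem _ hc.2)
      (Fusion.map_mem_centralizer hγi.1 le_sup_left ((Set.image_congr hγe).trans (autFun_image α))
        (Subgroup.mem_sup_right hc) hc.2).2
  refine ⟨F₂, hsat, hidx, hn, hnE, fun a ha => ?_⟩
  have hnd₂ : NData F₂ E p := ⟨hUp, hsat, hnE⟩
  obtain ⟨Y, hY⟩ := (fullyAutomized_of_fullyNormalized hUp hsat hnd₂.t_fullyNormalized).2
  have hle : F₂.autGroup T ≤ F.autGroup T := autGroup_mono (hidx.1 T)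
  have hKtop : K.subgroupOf (F₂.autGroup T) = ⊤ := by
    refine eq_top_of_sylow_coprime Y _ (fun x hx => ?_) fun x hx =>
      Subgroup.mem_subgroupOf.mpr (h.pPower _ (hle x.2) (by rwa [Subgroup.orderOf_coe]))
    rw [hY, Subgroup.mem_subgroupOf, ← range_conjAutHom] at hx
    obtain ⟨⟨s, hs⟩, hse⟩ := hx
    refine Subgroup.mem_subgroupOf.mpr ?_
    rw [← hse]
    exact (mem_preK h.nd (preK_le hs.1)).mp hs.1
  exact Subgroup.mem_subgroupOf.mp (hKtop.ge (Subgroup.mem_top (⟨a, ha⟩ : F₂.autGroup T)))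

end Cfsg.Agent.Fusion92.TClass
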