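import Cfsg.Agent.Fusion92.TClass.Transport
import Cfsg.Agent.Fusion92.TClass.PStep

/-!
# Normality of the `p`-power index step in the whole system
-/

set_option autoImplicit false

namespace Cfsg.Agent.Fusion92.TClass

open Cfsg Cfsg.Agent.Fusion Cfsg.Agent.Fusion.NormalLift
open Cfsg.FusionSystem (normalizerIn centralizerIn)

universe u

variable {Ω : Type u} [Group Ω] {S S₁ T U : Subgroup Ω} {F : FusionSystem S} {F₁ : FusionSystem S₁}
  {F₂ : FusionSystem U} {p : ℕ} [Finite S] [Fact p.Prime]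

/-- A subsystem of `p`-power index of `F₁` is invariant under the automorphisms of `U` in `F`. -/
theorem pPower_transport (hN : NData F F₁ p) (hUS : U ≤ S₁) (hs : F₂.IsSaturated p)
    (hi : F₂.HasPPowerIndexIn F₁ p) {k : Ω → Ω} (hk : IsIso F U U k) {P : Subgroup Ω} {f : Ω → Ω}
    (hf : IsMap F₂ P f) {P' : Subgroup Ω} (hP' : (P' : Set Ω) = k '' P) :
    ∃ g, IsMap F₂ P' g ∧ ∀ x ∈ P, g (k x) = k (f x) := by
  haveI := hN.finiteT
  haveI := finite_of_le hUS
  have hS₁ : IsPGroup p S₁ := hN.pgroup.to_le hN.tS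
  let E₂ : FusionSystem U := mkSub F₁ U
    (fun P f => IsMap F₁ P f ∧ P ≤ U ∧ (∀ x ∈ P, f x ∈ U) ∧
      ∃ P', IsIso F P P' k ∧ ∃ χ, IsMap F₂ P' χ ∧ ∀ x ∈ P, χ (k x) = k (f x))
    (fun {P f f'} ⟨h1, h2, h3, P', h4, χ, h5, h6⟩ he => ⟨h1.congr he, h2, fun x hx => he hx ▸ h3 x hx,
      P', h4, χ, h5, fun x hx => by rw [h6 x hx, he hx]⟩)
    (fun {P f} h => ⟨h.1, h.2.1, h.2.2.1⟩)
    (fun {P g} hP hg => by
      obtain ⟨P', hP'⟩ := (hk.1.mono hP).exists_image
      refine ⟨isMap_conj (hP.trans hUS) (hUS hg), hP,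
        fun x hx => U.mul_mem (U.mul_mem hg (hP hx)) (U.inv_mem hg), P', hP', _,
        isMap_conj (fun y hy => ?_) (hk.mem hg), fun x hx => (hk.1.map_conj hg (hP hx)).symm⟩
      obtain ⟨x, hx, rfl⟩ := hP'.exists_preimage hy
      exact hk.mem (hP hx))
    (fun {P Q f f'} ⟨h1, h2, _, P', h4, χ, h5, h6⟩ ⟨k1, _, k3, Q', k4, χ', k5, k6⟩ hmaps => by
      refine ⟨h1.comp k1 hmaps, h2, fun x hx => k3 _ (hmaps x hx), P', h4, χ' ∘ χ, h5.comp k5 ?_, ?_⟩
      · intro y hy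
        obtain ⟨x, hx, rfl⟩ := h4.exists_preimage hy
        rw [h6 x hx]
        exact k4.mem (hmaps x hx)
      · intro x hx
        rw [Function.comp_apply, h6 x hx, k6 _ (hmaps x hx), Function.comp_apply])
    (fun {P Q f g} ⟨_, h2, h3, P', h4, χ, h5, h6⟩ hi hg hgl => by
      have hQT : Q ≤ U := fun y hy => by
        obtain ⟨x, hx, rfl⟩ := hi.exists_preimage hy
        exact h3 x hx
      obtain ⟨Q', hQ'⟩ := (hk.1.mono hQT).exists_image
      have hχ : IsIso F₂ P' Q' χ := by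
        refine ⟨h5, Set.Subset.antisymm ?_ fun z hz => ?_⟩
        · rintro _ ⟨y, hy, rfl⟩
          obtain ⟨x, hx, rfl⟩ := h4.exists_preimage hy
          rw [h6 x hx]
          exact hQ'.mem (hi.mem hx)
        · obtain ⟨y, hy, rfl⟩ := hQ'.exists_preimage hz
          obtain ⟨x, hx, rfl⟩ := hi.exists_preimage hy
          exact ⟨k x, h4.mem hx, h6 x hx⟩
      obtain ⟨χi, hχi, hχil, -⟩ := hχ.exists_inv
      refine ⟨hg.1, hQT, fun y hy => h2 (hg.mem hy), Q', hQ', χi, hχi.1, fun y hy => ?_⟩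
      obtain ⟨x, hx, rfl⟩ := hi.exists_preimage hy
      rw [← h6 x hx, hχil _ (h4.mem hx), hgl x hx])
  have hle : F₂ ≤ E₂ := by
    refine Fusion91.le_of_pResidual_le (F := F₁) (hS₁.to_le hUS) hs hi.1 fun P hP => ?_
    have hPS₁ := hP.trans hUS
    haveI := finite_of_le hPS₁
    haveI := finite_mulAut P
    rw [Subgroup.map_le_iff_le_comap, Transfer.pResidual_le_iff]
    intro α hα
    obtain ⟨P', hP'T, hP'⟩ := hk.restrict hP
    have hαi := (mem_autGroup hPS₁).1 α.2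
    have hb₁ : MulAut.congr hP'.equiv (α : MulAut P) ∈ F₁.autGroup P' := by
      obtain ⟨χ, hχ, hχe⟩ := hN.strongInv P P' P (autFun (α : MulAut P)) k le_rfl hPS₁ hαi.1
        (fun x hx => hαi.mem hx) hP'.1 hP'
      refine autGroup_mem_of_isMap (hχ.congr fun y hy => ?_)
      obtain ⟨x, hx, rfl⟩ := hP'.exists_preimage hy
      rw [hχe x hx, NormalLift.autFun_congr hP' (α : MulAut P) hx]
    have hβ : MulAut.congr hP'.equiv (α : MulAut P) ∈ F₂.autGroup P' :=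
      hi.2.2 P' hP'T ⟨⟨_, hb₁⟩, Transfer.mem_pResidual_of_coprime
        (by rw [Subgroup.orderOf_mk, MulEquiv.orderOf_eq, Subgroup.orderOf_coe]; exact hα), rfl⟩
    refine autGroup_mem_of_isMap (isMap_mkSub.2 ⟨hαi.1, hP, fun x hx => hP (hαi.mem hx), P', hP', _,
      ((mem_autGroup hP'T).1 hβ).1, fun x hx => ?_⟩)
    exact NormalLift.autFun_congr hP' _ hx
  obtain ⟨-, -, -, P'', hP'', χ, hχ, hχe⟩ := isMap_mkSub.1 (hf.of_le hle)
  obtain rfl : P'' = P' := SetLike.coe_injective (hP''.2.symm.trans hP'.symm)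
  exact ⟨χ, hχ, hχe⟩

/-- A normal subsystem of `p`-power index of `F₁` over a subgroup strongly closed in `F` is normal
in `F`. -/
theorem pPower_normal_up (hN : NData F F₁ p) (hUS : U ≤ S₁) (hUc : F.StronglyClosed U)
    (hs : F₂.IsSaturated p) (hi : F₂.HasPPowerIndexIn F₁ p) (hC : centralizerIn S U ≤ U) :
    F₂.IsNormalIn F p := by
  haveI := hN.finiteT
  have hUn : (U.subgroupOf S₁).Normal :=
    (Subgroup.normal_subgroupOf_iff_le_normalizer hUS).mpr
      (hN.tS.trans (stronglyClosed_le_normalizer hUc))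
  refine normal_of_centric ⟨hs, hN.sat, Fus93.isInvariantIn_of
    (fun P => (hi.1 P).trans (hN.sub P)) hUc
    (fun P f hf k hk P' hP' => pPower_transport hN hUS hs hi hk hf hP') fun P f hf hPU => ?_⟩ hC
  obtain ⟨k, g, hk, hg, hfe⟩ := invariant_frattini hN.invariant hf (hPU.trans hUS)
  obtain ⟨k₂, g₂, hk₂, hg₂, hge⟩ :=
    PPow.exists_frattini (hN.pgroup.to_le hN.tS) hN.normal.1.1 hUS hUn hs hi hg hPU
  have hkU : IsIso F U U k := isIso_of_mapsTo (hk.1.mono hUS) hUc.1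
    (fun x hx => Fusion92.closed_apply hUc hk.1 (hUS hx) hx) le_rfl
  refine ⟨k ∘ k₂, g₂, IsIso.comp ⟨hk₂.1.of_isSubsystemOf hN.sub, hk₂.2⟩ hkU, hg₂, fun x hx => ?_⟩
  rw [hfe x hx, hge x hx]
  rfl

end Cfsg.Agent.Fusion92.TClass
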