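import Cfsg.Agent.Fusion92.TClass.GroupStep
import Cfsg.Agent.Fusion92.TClass.PStepUp
import Cfsg.Agent.Fusion92.TClass.Limit

/-!
# Descending from a system to a normal envelope of a normal subsystem
-/

set_option autoImplicit false

namespace Cfsg.Agent.Fusion92.TClass

open Cfsg Cfsg.Agent.Fusion Cfsg.Agent.Fusion.NormalLift
open Cfsg.FusionSystem (normalizerIn centralizerIn)

universe u

variable {Ω : Type u} [Group Ω] {S T : Subgroup Ω} {F : FusionSystem S} {E : FusionSystem T} {p : ℕ}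
  [Finite S] [Fact p.Prime]

/-- An intermediate system of the descent from `F` to `E`. -/
structure Link (F : FusionSystem S) (E : FusionSystem T) (p : ℕ) {U : Subgroup Ω}
    (F₁ : FusionSystem U) : Prop where
  outer : NData F F₁ p
  inner : NData F₁ E p
  cent : centralizerIn S T ≤ U
  limits : ∀ {V : Subgroup Ω} (L : FusionSystem V) {W : Subgroup Ω} (L₁ : FusionSystem W),
    L.IsResidualLimitOf F p → L₁.IsResidualLimitOf F₁ p → ∀ P, L.Hom P = L₁.Hom P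

theorem preK_closed {S₁ : Subgroup Ω} {F₁ : FusionSystem S₁} {K : Subgroup (MulAut T)}
    (hN : NData F F₁ p) (h : PData F₁ E p K) (hTS : F.StronglyClosed T)
    (hK : ∀ a ∈ K, ∀ c ∈ F.autGroup T, c * a * c⁻¹ ∈ K)
    (hcl : F₁.StronglyClosed (preK S₁ T K)) : F.StronglyClosed (preK S₁ T K) := by
  haveI := hN.finiteT
  refine ⟨preK_le.trans hN.tS, fun R hR φ hφ x => ?_⟩
  obtain ⟨k, g, hk, hg, hfe⟩ := invariant_frattini hN.invariant (isMap_extFun hφ) (hR.trans preK_le)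
  have hy : g x ∈ preK S₁ T K := Fusion92.closed_apply hcl hg x.2 (hR x.2)
  rw [← extFun_coe φ x, hfe x x.2]
  set y := g (x : Ω) with hyd
  have hy₁ : y ∈ S₁ := preK_le hy
  have hky : k y ∈ S₁ := hk.mem hy₁
  obtain ⟨d, hd, hde⟩ := (isIso_of_mapsTo (hk.1.mono h.nd.tS) hTS.1
    (fun z hz => Fusion92.closed_apply hTS hk.1 (h.nd.tS hz) hz) le_rfl).exists_aut
  refine (mem_preK h.nd hky).mpr ?_
  have hconj : conjAutHom S₁ T ⟨k y, hky, h.nd.s_le hky⟩ =
      d * conjAutHom S₁ T ⟨y, hy₁, h.nd.s_le hy₁⟩ * d⁻¹ := by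
    refine eq_mul_inv_of_mul_eq (MulEquiv.ext fun z => Subtype.ext ?_)
    show k y * ((d z : T) : Ω) * (k y)⁻¹ = ((d _ : T) : Ω)
    rw [← autFun_coe d, ← autFun_coe d, hde z.2]
    refine Eq.trans ?_ (hde (h.nd.conj_t hy₁ z.2)).symm
    rw [hk.1.map_conj hy₁ (h.nd.tS z.2)]
  exact hconj ▸ hK _ ((mem_preK h.nd hy₁).mp hy) d hd

theorem descend (h0 : NData F E p) [hn : ((E.autGroup T).subgroupOf (F.autGroup T)).Normal]
    (hsolv : Cfsg.IsPSolvable p (↥(F.autGroup T) ⧸ (E.autGroup T).subgroupOf (F.autGroup T)))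
    {U : Subgroup Ω} {F₁ : FusionSystem U} (hl : Link F E p F₁)
    (hne : E.autGroup T ≠ F₁.autGroup T) :
    ∃ (U' : Subgroup Ω) (F₂ : FusionSystem U'),
      Link F E p F₂ ∧ Nat.card (F₂.autGroup T) < Nat.card (F₁.autGroup T) := by
  obtain ⟨hN, hd, hcT, hlim⟩ := hl
  haveI := hN.finiteT
  haveI := h0.finiteT
  haveI := finite_mulAut T
  have hnorm : ∀ a ∈ F₁.autGroup T, ∀ c ∈ F.autGroup T, c * a * c⁻¹ ∈ F₁.autGroup T :=
    fun a ha c hc => NormalLift.autGroup_conj_mem hN hd.tS ha hc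
  obtain ⟨K, hHK, hKG, hKne, hKn, hcase⟩ := exists_group_step (p := p)
    (autGroup_mono (hd.sub T)) (autGroup_mono (hN.sub T)) hne hnorm hsolv
  have hlt : ∀ A : Subgroup (MulAut T), A ≤ K → Nat.card A < Nat.card (F₁.autGroup T) := fun A hA =>
    lt_of_le_of_lt (Subgroup.card_le_of_le hA) (lt_of_le_of_ne (Subgroup.card_le_of_le hKG) fun he =>
      hKne (Subgroup.eq_of_le_of_card_ge hKG he.ge))
  have hKn₁ : ∀ a ∈ K, ∀ c ∈ F₁.autGroup T, c * a * c⁻¹ ∈ K := fun a ha c hc =>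
    hKn a ha c (autGroup_mono (hN.sub T) hc)
  have hU : IsPGroup p U := h0.pgroup.to_le hN.tS
  rcases hcase with hp' | hp
  · have h : PData F₁ E p K := ⟨hd, hKG, hHK, hKn₁, hp'⟩
    obtain ⟨F₂, hsat, hidx, hn₂, hnE, hA⟩ := exists_pStep h
    have hC : centralizerIn S T ≤ preK U T K := fun s hs =>
      cent_le_preK hd (⟨hcT hs, hs.2⟩ : s ∈ centralizerIn U T)
    have hCU : centralizerIn S (preK U T K) ≤ preK U T K :=
      (inf_le_inf_left _ (Subgroup.centralizer_le (t_le_preK h))).trans hC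
    have hn' := pPower_normal_up hN preK_le (preK_closed hN h h0.closed hKn hn₂.1.2.2.2.1) hsat hidx hCU
    haveI := finite_of_le (preK_le : preK U T K ≤ U)
    refine ⟨preK U T K, F₂, ⟨⟨h0.pgroup, h0.sat, hn'⟩, ⟨hU.to_le preK_le, hsat, hnE⟩, hC, ?_⟩, hlt _ hA⟩
    intro V L W L₂ hL hL₂ P
    obtain ⟨V₁, L₁, hL₁⟩ := exists_limit _ U F₁ inferInstance le_rfl hU hd.sat
    exact (hlim L L₁ hL hL₁ P).trans (S5203.result p hU F₁ hd.sat F₂ hn₂ hidx L₁ hL₁ L₂ hL₂ P)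
  · have h : KData F₁ E p K := ⟨hd, hKG, hHK, hKn₁, hp⟩
    have hCU : centralizerIn S U ≤ U :=
      (inf_le_inf_left _ (Subgroup.centralizer_le hd.tS)).trans hcT
    refine ⟨U, kSystem F₁ p T K h.nd.tS, ⟨⟨h0.pgroup, h0.sat, kSystem_normal_up hN h h0.closed hKn hCU⟩,
      ⟨hU, kSystem_isSaturated h, normal_kSystem h⟩, hcT, ?_⟩, hlt _ (autGroup_kSystem_le h)⟩
    intro V L W L₂ hL hL₂ P
    obtain ⟨V₁, L₁, hL₁⟩ := exists_limit _ U F₁ inferInstance le_rfl hU hd.sat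
    exact (hlim L L₁ hL hL₁ P).trans
      (limit_primeTo hU hd.sat (kSystem_isSaturated h) (kSystem_primeToP h) hL₁ hL₂ P)

theorem sup_of_autGroup_eq (h0 : NData F E p) {U : Subgroup Ω} {F₁ : FusionSystem U}
    (hd : NData F₁ E p) (hN : NData F F₁ p) (hc : centralizerIn S T ≤ U)
    (he : E.autGroup T = F₁.autGroup T) : U = T ⊔ centralizerIn S T := by
  haveI := hN.finiteT
  haveI := h0.finiteT
  haveI := finite_mulAut T
  refine le_antisymm (fun s hs => ?_) (sup_le hd.tS hc)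
  obtain ⟨Y, hY⟩ := (fullyAutomized_of_fullyNormalized h0.tp h0.eSat fullyNormalized_self).2
  let φ : normalizerIn U T →* E.autGroup T := (conjAutHom U T).codRestrict _ fun x => by
    rw [he]
    exact autInducedBy_le_autGroup hd.tS (by rw [← range_conjAutHom]; exact ⟨x, rfl⟩)
  have hle : (Y : Subgroup (E.autGroup T)) ≤ φ.range := fun a ha => by
    rw [hY, Subgroup.mem_subgroupOf, ← range_conjAutHom] at ha
    obtain ⟨⟨t, ht⟩, hta⟩ := ha
    exact ⟨⟨t, hd.tS ht.1, ht.2⟩, Subtype.ext hta⟩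
  have heq : φ.range = Y := Y.is_maximal'
    ((h0.pgroup.to_le (inf_le_left.trans hN.tS)).of_surjective φ.rangeRestrict φ.rangeRestrict_surjective) hle
  have hmem : φ ⟨s, hs, hd.s_le hs⟩ ∈ (Y : Subgroup (E.autGroup T)) := heq.le ⟨_, rfl⟩
  rw [hY, Subgroup.mem_subgroupOf, ← range_conjAutHom] at hmem
  obtain ⟨⟨t, ht⟩, hte⟩ := hmem
  rw [show s = t * (t⁻¹ * s) by group]
  refine Subgroup.mul_mem_sup ht.1 ⟨S.mul_mem (S.inv_mem (h0.tS ht.1)) (hN.tS hs),
    Subgroup.mem_centralizer_iff.mpr fun x hx => ?_⟩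
  have hx' : t * x * t⁻¹ = s * x * s⁻¹ := congrArg Subtype.val (DFunLike.congr_fun hte (⟨x, hx⟩ : T))
  calc x * (t⁻¹ * s) = t⁻¹ * (t * x * t⁻¹) * s := by group
    _ = t⁻¹ * (s * x * s⁻¹) * s := by rw [hx']
    _ = t⁻¹ * s * x := by group

/-- The normal envelope of `E` in `F`. -/
theorem exists_chain (h0 : NData F E p) [hn : ((E.autGroup T).subgroupOf (F.autGroup T)).Normal]
    (hsolv : Cfsg.IsPSolvable p (↥(F.autGroup T) ⧸ (E.autGroup T).subgroupOf (F.autGroup T))) :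
    ∃ F₀ : FusionSystem (T ⊔ centralizerIn S T), Link F E p F₀ ∧ F₀.autGroup T = E.autGroup T := by
  haveI := h0.finiteT
  haveI := finite_mulAut T
  suffices key : ∀ (n : ℕ) (U : Subgroup Ω) (F₁ : FusionSystem U), Link F E p F₁ →
      Nat.card (F₁.autGroup T) = n → ∃ (U' : Subgroup Ω) (F₀ : FusionSystem U'),
        Link F E p F₀ ∧ E.autGroup T = F₀.autGroup T by
    obtain ⟨U, F₀, hl, he⟩ := key _ S F ⟨⟨h0.pgroup, h0.sat, normal_self h0.sat⟩, h0, inf_le_left,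
      fun L _ L₁ hL hL₁ => S5203.limit_unique hL h0.pgroup h0.sat L₁ hL₁⟩ rfl
    obtain rfl : U = T ⊔ centralizerIn S T := sup_of_autGroup_eq h0 hl.inner hl.outer hl.cent he
    exact ⟨F₀, hl, he.symm⟩
  intro n
  induction n using Nat.strong_induction_on with
  | _ n ih =>
  intro U F₁ hl hcard
  by_cases he : E.autGroup T = F₁.autGroup T
  · exact ⟨U, F₁, hl, he⟩
  obtain ⟨U', F₂, hl', hlt⟩ := descend h0 hsolv hl he
  exact ih _ (hcard ▸ hlt) U' F₂ hl' rfl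

end Cfsg.Agent.Fusion92.TClass
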