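import Cfsg.Agent.Fusion92.TClass.Good

/-!
# Classes of maps on centric subgroups of `S` modulo `K`
-/

set_option autoImplicit false

namespace Cfsg.Agent.Fusion92.TClass

open Cfsg Cfsg.Agent.Fusion Cfsg.Agent.Fusion.NormalLift Cfsg.Agent.Fusion.PrimeToP
open Cfsg.Agent.PrimeIndex (Cls)
open Cfsg.FusionSystem (normalizerIn centralizerIn)

variable {Ω : Type*} [Group Ω] {S T : Subgroup Ω} {F : FusionSystem S} {E : FusionSystem T} {p : ℕ}
  {K : Subgroup (MulAut T)}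

/-- The automorphism `b` of `S` restricts to `a` on `T`. -/
def Res (F : FusionSystem S) (T : Subgroup Ω) (b : MulAut S) (a : MulAut T) : Prop :=
  b ∈ F.autGroup S ∧ a ∈ F.autGroup T ∧ ∀ x ∈ T, autFun b x = autFun a x

theorem res_one (hT : T ≤ S) : Res F T 1 1 :=
  ⟨one_mem _, one_mem _, fun x hx => (autFun_one (hT hx)).trans (autFun_one hx).symm⟩

theorem Res.mul (hT : T ≤ S) {b b' : MulAut S} {a a' : MulAut T} (h : Res F T b a)
    (h' : Res F T b' a') : Res F T (b * b') (a * a') := by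
  refine ⟨mul_mem h.1 h'.1, mul_mem h.2.1 h'.2.1, fun x hx => ?_⟩
  rw [autFun_mul _ _ (hT hx), autFun_mul _ _ hx, Function.comp_apply, Function.comp_apply, h'.2.2 x hx,
    h.2.2 _ (PrimeIndex.autFun_mem a' hx)]

theorem Res.inv (hT : T ≤ S) {b : MulAut S} {a : MulAut T} (h : Res F T b a) :
    Res F T b⁻¹ a⁻¹ := by
  refine ⟨inv_mem h.1, inv_mem h.2.1, fun x hx => ?_⟩
  have hy := PrimeIndex.autFun_mem a⁻¹ hx
  calc autFun b⁻¹ x = autFun b⁻¹ (autFun b (autFun a⁻¹ x)) := by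
        rw [h.2.2 _ hy, PrimeIndex.autFun_apply_inv a hx]
    _ = autFun a⁻¹ x := PrimeIndex.autFun_inv_apply b (hT hy)

theorem Res.unique {b : MulAut S} {a a' : MulAut T} (h : Res F T b a) (h' : Res F T b a') : a = a' :=
  MulEquiv.ext fun x => Subtype.ext (by
    rw [← autFun_coe a, ← autFun_coe a', ← h.2.2 x x.2, h'.2.2 x x.2])

theorem exists_res [Finite S] (h : NData F E p) {b : MulAut S} (hb : b ∈ F.autGroup S) :
    ∃ a, Res F T b a := by
  have hbi := (mem_autGroup le_rfl).mp hb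
  obtain ⟨a, ha, hae⟩ := (isIso_of_mapsTo (hbi.1.mono h.tS) h.tS
    (fun x hx => Fusion92.closed_apply h.closed hbi.1 (h.tS hx) hx) le_rfl).exists_aut
  exact ⟨a, hb, ha, fun x hx => (hae hx).symm⟩

/-- The automorphisms of `S` restricting to elements of `K`. -/
def resK (F : FusionSystem S) (T : Subgroup Ω) (K : Subgroup (MulAut T)) (hT : T ≤ S) :
    Subgroup (MulAut S) where
  carrier := {b | ∃ a ∈ K, Res F T b a}
  one_mem' := ⟨1, one_mem _, res_one hT⟩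
  mul_mem' := fun ⟨a, ha, h⟩ ⟨a', ha', h'⟩ => ⟨a * a', K.mul_mem ha ha', h.mul hT h'⟩
  inv_mem' := fun ⟨a, ha, h⟩ => ⟨a⁻¹, K.inv_mem ha, h.inv hT⟩

theorem resK_le {hT : T ≤ S} : resK F T K hT ≤ F.autGroup S := fun _ ⟨_, _, h⟩ => h.1

theorem mem_resK {hT : T ≤ S} {b : MulAut S} {a : MulAut T} (h : Res F T b a)
    (hb : b ∈ resK F T K hT) : a ∈ K := by
  obtain ⟨a', ha', h'⟩ := hb
  exact h.unique h' ▸ ha'

theorem resK_normal [Finite S] (h : KData F E p K) {b c : MulAut S} (hb : b ∈ resK F T K h.nd.tS)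
    (hc : c ∈ F.autGroup S) : c * b * c⁻¹ ∈ resK F T K h.nd.tS := by
  obtain ⟨a, ha, hba⟩ := hb
  obtain ⟨d, hd⟩ := exists_res h.nd hc
  exact ⟨d * a * d⁻¹, h.normal a ha d hd.2.1, (hd.mul h.nd.tS hba).mul h.nd.tS (hd.inv h.nd.tS)⟩

/-- The map `f` on `M` has class `a`. -/
def Cl (F : FusionSystem S) (p : ℕ) (T : Subgroup Ω) (M : Subgroup Ω) (f : Ω → Ω) (a : MulAut T) :
    Prop :=
  ∃ b, Cls F p M f b ∧ Res F T b a

theorem Cl.mem {M : Subgroup Ω} {f : Ω → Ω} {a : MulAut T} (h : Cl F p T M f a) :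
    a ∈ F.autGroup T :=
  let ⟨_, _, hr⟩ := h; hr.2.1

theorem Cl.mono {M M' : Subgroup Ω} {f : Ω → Ω} {a : MulAut T} (h : Cl F p T M f a) (hle : M' ≤ M) :
    Cl F p T M' f a :=
  let ⟨b, hb, hr⟩ := h; ⟨b, hb.mono hle, hr⟩

theorem Cl.congr {M : Subgroup Ω} {f f' : Ω → Ω} {a : MulAut T} (h : Cl F p T M f a)
    (he : Set.EqOn f f' M) : Cl F p T M f' a :=
  let ⟨b, hb, hr⟩ := h; ⟨b, hb.congr he, hr⟩

theorem Cl.comp (hT : T ≤ S) {P Q : Subgroup Ω} {f g : Ω → Ω} {a c : MulAut T}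
    (hf : Cl F p T P f a) (hg : Cl F p T Q g c) (hm : ∀ x ∈ P, f x ∈ Q) :
    Cl F p T P (g ∘ f) (c * a) :=
  let ⟨b, hb, hr⟩ := hf
  let ⟨d, hd, hs⟩ := hg
  ⟨d * b, hb.comp hd hm, hs.mul hT hr⟩

theorem Cl.inv (hT : T ≤ S) {P Q : Subgroup Ω} {f fi : Ω → Ω} {a : MulAut T} (hf : Cl F p T P f a)
    (hi : IsIso F P Q f) (hl : ∀ x ∈ P, fi (f x) = x) : Cl F p T Q fi a⁻¹ :=
  let ⟨b, hb, hr⟩ := hf
  ⟨b⁻¹, hb.inv hi hl, hr.inv hT⟩

theorem cl_of_gen (hT : T ≤ S) {P : Subgroup Ω} {f : Ω → Ω} (h : Gen F p P f) : Cl F p T P f 1 :=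
  ⟨1, PrimeIndex.cls_of_gen h, res_one hT⟩

theorem cl_aut {P : Subgroup Ω} (hP : P ≤ S) {b : MulAut S} {a : MulAut T} (h : Res F T b a) :
    Cl F p T P (autFun b) a :=
  ⟨b, PrimeIndex.cls_aut hP h.1, h⟩

theorem cl_exists [Finite S] [Fact p.Prime] (h : NData F E p) {M : Subgroup Ω} {f : Ω → Ω}
    (hf : IsMap F M f) : ∃ a, Cl F p T M f a := by
  obtain ⟨b, hb⟩ := PrimeIndex.cls_exists h.pgroup h.sat hf
  obtain ⟨a, ha⟩ := exists_res h hb.1
  exact ⟨a, b, hb, ha⟩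

/-- The classes on centric subgroups of order above `n` are unique. -/
def UniqueAbove (F : FusionSystem S) (p : ℕ) (T : Subgroup Ω) (K : Subgroup (MulAut T)) (n : ℕ) :
    Prop :=
  ∀ M, F.IsCentric M → n < Nat.card M → ∀ b, Gen F p M (autFun b) → ∀ a, Res F T b a → a ∈ K

theorem Cl.unique (hT : T ≤ S) {n : ℕ} (hV : UniqueAbove F p T K n) {M : Subgroup Ω}
    (hMc : F.IsCentric M) (hlt : n < Nat.card M) {f : Ω → Ω} {a c : MulAut T}
    (h : Cl F p T M f a) (h' : Cl F p T M f c) : c⁻¹ * a ∈ K := by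
  obtain ⟨b, ⟨hb, g, hg, he⟩, hra⟩ := h
  obtain ⟨d, ⟨hd, g', hg', he'⟩, hrc⟩ := h'
  obtain ⟨R, hR⟩ := hg.isMap.exists_image
  obtain ⟨gi, hgi, hgl, -⟩ := hR.exists_inv
  refine hV R (PrimeToP.isCentric_of_isConj hMc hR.isConj) (hR.card_eq ▸ hlt) (d⁻¹ * b) ?_ _
    ((hrc.inv hT).mul hT hra)
  refine ((Gen.inv hg hR.2 hgl).comp hg' fun y hy => hgi.mem hy).congr fun y hy => ?_
  obtain ⟨x, hx, rfl⟩ := hR.exists_preimage hy
  have hgx := hg.isMap.apply_mem hx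
  have h1 := (he hx).symm.trans (he' hx)
  simp only [Function.comp_apply] at h1 ⊢
  rw [hgl x hx, autFun_mul _ _ hgx, Function.comp_apply, h1,
    PrimeIndex.autFun_inv_apply d (hg'.isMap.apply_mem hx)]

/-- Congruence modulo `K`. -/
def Eqv (K : Subgroup (MulAut T)) (a b : MulAut T) : Prop :=
  b⁻¹ * a ∈ K

theorem eqv_refl (a : MulAut T) : Eqv K a a := by simp [Eqv, K.one_mem]

theorem Eqv.symm {a b : MulAut T} (h : Eqv K a b) : Eqv K b a := by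
  have := K.inv_mem h
  simpa [Eqv] using this

theorem Eqv.trans {a b c : MulAut T} (h : Eqv K a b) (h' : Eqv K b c) : Eqv K a c := by
  have := K.mul_mem h' h
  simpa [Eqv, mul_assoc] using this

theorem Eqv.mul_left (c : MulAut T) {a b : MulAut T} (h : Eqv K a b) : Eqv K (c * a) (c * b) := by
  simpa [Eqv, mul_assoc] using h

theorem Eqv.mul_right (hk : KData F E p K) {c : MulAut T} (hc : c ∈ F.autGroup T) {a b : MulAut T}
    (h : Eqv K a b) : Eqv K (a * c) (b * c) := by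
  have := hk.normal _ h c⁻¹ (inv_mem hc)
  simpa [Eqv, mul_assoc] using this

theorem Eqv.inv (hk : KData F E p K) {a b : MulAut T} (ha : a ∈ F.autGroup T) (hb : b ∈ F.autGroup T)
    (h : Eqv K a b) : Eqv K a⁻¹ b⁻¹ := by
  have h1 := ((h.symm.mul_left a⁻¹).mul_right hk (inv_mem hb))
  simpa [mul_assoc] using h1

/-- Maps agreeing on a centric subgroup have the same classes. -/
theorem Cl.of_agree [Finite S] [Fact p.Prime] (h : NData F E p) {U R : Subgroup Ω}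
    (hU : F.IsCentric U) (hUR : U ≤ R) {f g : Ω → Ω} (hf : IsMap F R f) (hg : IsMap F R g)
    (he : Set.EqOn f g U) {a : MulAut T} (hcl : Cl F p T R f a) : Cl F p T R g a := by
  obtain ⟨φ, hφ, hφf⟩ := id hf
  obtain ⟨ψ, hψ, hψg⟩ := id hg
  obtain ⟨z, hzU, -, hz⟩ := agree_on_centric h.pgroup F h.sat hU hUR hφ hψ fun x hx => by
    rw [hφf, hψg]; exact (he hx).symm
  have hconj : Gen F p R (fun x => (z : Ω) * x * (z : Ω)⁻¹) := Gen.conj hf.dom_le (hf.dom_le z.2)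
  have h1 := (cl_of_gen h.tS hconj).comp h.tS hcl fun x hx => R.mul_mem (R.mul_mem z.2 hx) (R.inv_mem z.2)
  rw [mul_one] at h1
  refine h1.congr fun x hx => ?_
  show f ((z : Ω) * x * (z : Ω)⁻¹) = g x
  rw [← hψg ⟨x, hx⟩, hz ⟨x, hx⟩, hφf]
  rfl

end Cfsg.Agent.Fusion92.TClass
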