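import Cfsg.Agent.Fusion92.TClass.Basic

/-!
# Uniqueness of the class of a map on a subgroup centric in `E`
-/

set_option autoImplicit false

namespace Cfsg.Agent.Fusion92.TClass

open Cfsg Cfsg.Agent.Fusion Cfsg.Agent.Fusion.NormalLift Cfsg.Agent.Fusion.PrimeToP
open Cfsg.FusionSystem (normalizerIn centralizerIn)

variable {Ω : Type*} [Group Ω] {S T : Subgroup Ω} {F : FusionSystem S} {E : FusionSystem T} {p : ℕ}
  {K : Subgroup (MulAut T)}

/-- Subgroups on which only elements of `K` induce maps of `E`. -/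
def UniqueOn (F : FusionSystem S) (E : FusionSystem T) (K : Subgroup (MulAut T)) (R : Subgroup Ω) :
    Prop :=
  E.IsCentric R → ∀ a ∈ F.autGroup T, IsMap E R (autFun a) → a ∈ K

/-- The map `g` on `R` has class `1`. -/
def InK (F : FusionSystem S) (E : FusionSystem T) (K : Subgroup (MulAut T)) (R : Subgroup Ω)
    (g : Ω → Ω) : Prop :=
  ∃ a ∈ K, Dec F E R g a

theorem dec_unique (h : KData F E p K) {R : Subgroup Ω} (hR : E.IsCentric R)
    (hU : ∀ R' : Subgroup Ω, E.IsConj R R' → UniqueOn F E K R') {g : Ω → Ω} {a b : MulAut T}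
    (ha : Dec F E R g a) (hb : Dec F E R g b) : b⁻¹ * a ∈ K := by
  obtain ⟨hbG, e', he', hge'⟩ := hb
  obtain ⟨haG, e, he, hge⟩ := ha
  obtain ⟨R₁, hR₁⟩ := he.exists_image
  obtain ⟨ei, hei, hel, -⟩ := hR₁.exists_inv
  refine hU R₁ hR₁.isConj ⟨hR₁.cod_le, fun Q hQ => hR.2 Q (isConj_trans hR₁.isConj hQ)⟩ _
    (mul_mem (inv_mem hbG) haG) ((hei.1.comp he' fun y hy => hei.mem hy).congr fun y hy => ?_)
  obtain ⟨x, hx, rfl⟩ := hR₁.exists_preimage hy
  have hex : e x ∈ T := he.apply_mem hx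
  rw [autFun_mul _ _ hex]
  simp only [Function.comp_apply]
  rw [hel x hx, ← hge x hx, hge' x hx, PrimeIndex.autFun_inv_apply b (he'.apply_mem hx)]

theorem dec_pow (h : NData F E p) {R : Subgroup Ω} {c : MulAut R} {a : MulAut T}
    (hd : Dec F E R (autFun c) a) : ∀ n : ℕ, Dec F E R (autFun (c ^ n)) (a ^ n)
  | 0 => by
    rw [pow_zero, pow_zero]
    exact (dec_id hd.dom_le).congr fun x hx => (autFun_one hx).symm
  | n + 1 => by
    rw [pow_succ', pow_succ']
    exact ((dec_pow h hd n).comp h hd fun x hx => PrimeIndex.autFun_mem _ hx).congr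
      fun x hx => (autFun_mul c (c ^ n) hx).symm

/-- Automorphisms of `p`-power order of a subgroup centric in `E` have class `1`. -/
theorem inK_of_pElement [Finite S] (h : KData F E p K) {R : Subgroup Ω} (hR : E.IsCentric R)
    (hU : ∀ R' : Subgroup Ω, E.IsConj R R' → UniqueOn F E K R') {c : MulAut R}
    (hc : c ∈ F.autGroup R) {n : ℕ} (hn : c ^ p ^ n = 1) : InK F E K R (autFun c) := by
  obtain ⟨a, ha⟩ := exists_dec h.nd ((mem_autGroup (hR.1.trans h.nd.tS)).mp hc).1 hR.1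
  refine ⟨a, h.primeTo a ha.1 n ?_, ha⟩
  have h1 := dec_pow h.nd ha (p ^ n)
  rw [hn] at h1
  simpa using dec_unique h hR hU h1 ((dec_id hR.1).congr fun x hx => (autFun_one hx).symm)

variable [Finite S] [Fact p.Prime]

theorem eReceptive (h : NData F E p) {R : Subgroup Ω} (hR : E.IsCentric R) : E.IsReceptive R := by
  haveI := h.finiteT
  refine receptive_of_fullyCentralized h.tp h.eSat ⟨hR.1, fun Q hQ => ?_⟩
  obtain ⟨f, hf⟩ := isConj_iff.mp hQ
  obtain ⟨fi, hfi, -, -⟩ := hf.exists_inv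
  have hQc := hR.2 Q hQ
  refine card_le_of_injOn (centralizerIn_le _ _) (hfi.1.injOn.mono hQc) fun c hc => ?_
  have hcQ := hQc hc
  refine ⟨hfi.1.apply_mem hcQ, Subgroup.mem_centralizer_iff.mpr fun v hv => ?_⟩
  obtain ⟨q, hq, rfl⟩ := hfi.exists_preimage hv
  rw [← hfi.1.map_mul hq hcQ, ← hfi.1.map_mul hcQ hq, Subgroup.mem_centralizer_iff.mp hc.2 q hq]

theorem uniqueOn (h : KData F E p K) (R : Subgroup Ω) : UniqueOn F E K R := by
  induction hn : Nat.card T - Nat.card R using Nat.strong_induction_on generalizing R with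
  | _ n ih =>
  intro hR a ha hm
  haveI := h.nd.finiteT
  rcases hR.1.eq_or_lt with rfl | hlt
  · exact h.ge (autGroup_mem_of_isMap hm)
  have hai := (mem_autGroup h.nd.tS).mp ha
  obtain ⟨R₁, hR₁⟩ := hm.exists_image
  have hRN : R ≤ normalizerIn T R := le_normalizerIn hR.1
  set N := normalizerIn T R with hN
  have hNT : N ≤ T := inf_le_left
  haveI := finite_of_le hNT
  haveI := finite_of_le hR.1
  have hRlt : R < N := lt_normalizerIn h.nd.tp hlt
  have hcard : ∀ M : Subgroup Ω, Nat.card M = Nat.card N → M ≤ T → UniqueOn F E K M := by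
    intro M hM hMT
    refine ih _ ?_ M rfl
    have h1 : Nat.card R < Nat.card N :=
      lt_of_le_of_ne (Subgroup.card_le_of_le hRlt.le) fun he =>
        hRlt.ne (Subgroup.eq_of_le_of_card_ge hRlt.le he.ge)
    have h2 := Subgroup.card_le_of_le hMT
    omega
  have hext : IsExtendable T R (autFun a) N :=
    ⟨hNT, fun g hg => ⟨hg.2, autFun a g, PrimeIndex.autFun_mem a hg.1,
      fun x hx => hai.1.map_conj hg.1 (hR.1 hx)⟩⟩
  obtain ⟨e, he, hee⟩ := receptive_extend (eReceptive h.nd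
    (⟨hR₁.cod_le, fun Q hQ => hR.2 Q (isConj_trans hR₁.isConj hQ)⟩ : E.IsCentric R₁)) hR₁ hext
  have he' := he.mono (le_sup_right : N ≤ R ⊔ N)
  have hai' := (mem_autGroup h.nd.tS).mp (inv_mem ha)
  set ε : Ω → Ω := autFun a⁻¹ ∘ e with hε
  have hεm : IsMap F N ε :=
    (he'.of_isSubsystemOf h.nd.sub).comp hai'.1 fun x hx => he'.apply_mem hx
  have hεfix : ∀ x ∈ R, ε x = x := fun x hx => by
    simp only [hε, Function.comp_apply]
    rw [hee hx, PrimeIndex.autFun_inv_apply a (hR.1 hx)]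
  have hεT : ∀ x ∈ N, ε x ∈ T := fun x hx => PrimeIndex.autFun_mem _ (he'.apply_mem hx)
  have hεN : ∀ x ∈ N, ε x ∈ N := by
    intro x hx
    refine ⟨hεT x hx, (Fusion.map_mem_normalizer hεm hRN ?_ hx hx.2).2⟩
    exact (Set.image_congr hεfix).trans (Set.image_id' _)
  obtain ⟨c, hc, hce⟩ := (isIso_of_mapsTo hεm (hNT.trans h.nd.tS) hεN le_rfl).exists_aut
  haveI := finite_mulAut N
  obtain ⟨m, hm'⟩ : ∃ m, c ^ p ^ m = 1 := by
    have hmem : c ∈ fixMod N R := by
      refine ⟨fun x hx => Subtype.ext (by rw [← autFun_coe c, hce x.2]; exact hεfix _ hx), fun x => ?_⟩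
      rw [Subgroup.coe_mul, Subgroup.coe_inv, ← autFun_coe c, hce x.2]
      refine hR.2 R (isConj_refl hR.1) ⟨T.mul_mem (T.inv_mem (hNT x.2)) (hεT _ x.2),
        Subgroup.mem_centralizer_iff.mpr fun r hr => ?_⟩
      have h1 : (x : Ω) * r * (x : Ω)⁻¹ ∈ R := conj_mem_of_mem_normalizer x.2.2 hr
      have h2 := hεm.map_conj x.2 (hRN hr)
      rw [hεfix _ h1, hεfix _ hr] at h2
      calc r * ((x : Ω)⁻¹ * ε x) = (x : Ω)⁻¹ * ((x : Ω) * r * (x : Ω)⁻¹) * ε x := by group
        _ = (x : Ω)⁻¹ * (ε x * r * (ε x)⁻¹) * ε x := by rw [h2]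
        _ = (x : Ω)⁻¹ * ε x * r := by group
    obtain ⟨m, hm'⟩ := fixMod_isPGroup (h.nd.tp.to_le hNT) ⟨c, hmem⟩
    exact ⟨m, congrArg Subtype.val hm'⟩
  have hNc : E.IsCentric N := eCentric_mono hR hRN hNT
  have hUN : ∀ M : Subgroup Ω, E.IsConj N M → UniqueOn F E K M := fun M hM =>
    hcard M (isConj_card hM).symm (isConj_le_right hM)
  obtain ⟨k, hk, hd⟩ := inK_of_pElement h hNc hUN hc hm'
  have h1 : Dec F E N e (a * k) :=
    (hd.comp h.nd (dec_aut hNT ha) fun x hx => PrimeIndex.autFun_mem c hx).congr fun x hx => by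
      rw [Function.comp_apply, hce hx]
      exact PrimeIndex.autFun_apply_inv a (he'.apply_mem hx)
  have h2 := dec_unique h hNc hUN h1 (dec_map he')
  rw [inv_one, one_mul] at h2
  simpa using K.mul_mem h2 (K.inv_mem hk)

theorem InK.comp (h : KData F E p K) {R Q : Subgroup Ω} {f g : Ω → Ω} (hf : InK F E K R f)
    (hg : InK F E K Q g) (hm : ∀ x ∈ R, f x ∈ Q) : InK F E K R (g ∘ f) :=
  let ⟨a, ha, hfa⟩ := hf
  let ⟨b, hb, hgb⟩ := hg
  ⟨b * a, K.mul_mem hb ha, hfa.comp h.nd hgb hm⟩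

theorem inK_conj (h : KData F E p K) {R : Subgroup Ω} (hR : R ≤ T) {s : Ω} (hs : s ∈ S) :
    InK F E K R (fun x => s * x * s⁻¹) := by
  have hN : s ∈ normalizerIn S T := ⟨hs, h.nd.s_le hs⟩
  set a : MulAut T := conjAutHom S T ⟨s, hN⟩ with ha
  have haG : a ∈ F.autGroup T :=
    autInducedBy_le_autGroup h.nd.tS (by rw [← range_conjAutHom]; exact ⟨_, rfl⟩)
  obtain ⟨n, hn⟩ := h.nd.pgroup ⟨s, hs⟩
  refine ⟨a, h.primeTo a haG n ?_, (dec_aut hR haG).congr fun x hx => autFun_of_mem a (hR hx)⟩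
  rw [ha, ← map_pow, show (⟨s, hN⟩ : normalizerIn S T) ^ p ^ n = 1 from
    Subtype.ext (congrArg Subtype.val hn : s ^ p ^ n = 1), map_one]
  exact one_mem _

/-- Generated maps have class `1` on the subgroups meeting `T` in a subgroup centric in `E`. -/
theorem gen_inK (h : KData F E p K) {P : Subgroup Ω} {g : Ω → Ω} (hg : Gen F p P g)
    (hP : E.IsCentric (P ⊓ T)) : InK F E K (P ⊓ T) g := by
  induction hg with
  | conj _ hs => exact inK_conj h inf_le_right hs
  | @aut P Q c hQ hc hk hle =>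
    obtain ⟨n, hn⟩ := hk
    have hR : E.IsCentric (Q ⊓ T) := eCentric_mono hP (inf_le_inf_right T hle) inf_le_right
    have hiso : IsIso F (Q ⊓ T) (Q ⊓ T) (autFun c) := by
      refine isIso_of_mapsTo (((mem_autGroup hQ.1).mp hc).1.mono inf_le_left)
        (inf_le_left.trans hQ.1) (fun x hx => ⟨PrimeIndex.autFun_mem c hx.1, ?_⟩) le_rfl
      exact Fusion92.closed_apply h.nd.closed ((mem_autGroup hQ.1).mp hc).1 hx.1 hx.2
    obtain ⟨d, hd, hde⟩ := hiso.exists_aut
    have hpow : ∀ j : ℕ, ∀ x ∈ Q ⊓ T, autFun (d ^ j) x = autFun (c ^ j) x := by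
      intro j
      induction j with
      | zero => intro x hx; rw [pow_zero, pow_zero, autFun_one hx, autFun_one hx.1]
      | succ j ihj =>
        intro x hx
        rw [pow_succ', pow_succ', autFun_mul _ _ hx, autFun_mul _ _ hx.1, Function.comp_apply,
          Function.comp_apply, ← ihj x hx]
        exact hde (PrimeIndex.autFun_mem _ hx)
    have hd1 : d ^ p ^ n = 1 := by
      refine MulEquiv.ext fun x => Subtype.ext ?_
      rw [← autFun_coe, hpow _ x x.2, hn, autFun_one x.2.1]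
      rfl
    obtain ⟨a, ha, hdec⟩ := inK_of_pElement h hR (fun R' _ => uniqueOn h R') hd hd1
    exact ⟨a, ha, (hdec.mono (inf_le_inf_right T hle)).congr fun x hx => hde ⟨hle hx.1, hx.2⟩⟩
  | @comp P Q f g hf hg hm ihf ihg =>
    obtain ⟨R', hR'⟩ := (hf.isMap.mono (inf_le_left : P ⊓ T ≤ P)).exists_image
    have hle : R' ≤ Q ⊓ T := fun y hy => by
      obtain ⟨x, hx, rfl⟩ := hR'.exists_preimage hy
      exact ⟨hm x hx.1, Fusion92.closed_apply h.nd.closed hf.isMap hx.1 hx.2⟩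
    exact (ihf hP).comp h (ihg (eCentric_mono (eCentric_image h.nd hP hR') hle inf_le_right))
      fun x hx => ⟨hm x hx.1, Fusion92.closed_apply h.nd.closed hf.isMap hx.1 hx.2⟩
  | @inv P Q f g hf him hl ihf =>
    have hiso : IsIso F P Q f := ⟨hf.isMap, him⟩
    obtain ⟨fi, hfi, hfil, hfir⟩ := hiso.exists_inv
    have hPQ : IsIso F (P ⊓ T) (Q ⊓ T) f := by
      refine ⟨hf.isMap.mono inf_le_left, Set.Subset.antisymm ?_ fun y hy => ?_⟩
      · rintro _ ⟨x, hx, rfl⟩
        exact ⟨hiso.mem hx.1, Fusion92.closed_apply h.nd.closed hf.isMap hx.1 hx.2⟩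
      · exact ⟨fi y, ⟨hfi.mem hy.1, Fusion92.closed_apply h.nd.closed hfi.1 hy.1 hy.2⟩, hfir y hy.1⟩
    obtain ⟨fi', hfi', -, -⟩ := hPQ.exists_inv
    obtain ⟨a, ha, hd⟩ := ihf (eCentric_image h.nd hP hfi')
    exact ⟨a⁻¹, K.inv_mem ha, hd.inv h.nd hPQ.2 fun x hx => hl x hx.1⟩
  | congr _ he ih =>
    obtain ⟨a, ha, hd⟩ := ih hP
    exact ⟨a, ha, hd.congr fun x hx => he hx.1⟩

end Cfsg.Agent.Fusion92.TClass
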