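import Cfsg.Agent.Fusion92.TClass.Unique
import Cfsg.Agent.PrimeIndex.Saturation

/-!
# The subsystem of index prime to `p` given by the classes modulo `K`
-/

set_option autoImplicit false

namespace Cfsg.Agent.Fusion92.TClass

open Cfsg Cfsg.Agent.Fusion Cfsg.Agent.Fusion.NormalLift Cfsg.Agent.Fusion.PrimeToP
open Cfsg.Agent.PrimeIndex (Cls FD fdSystem isMap_fdSystem)
open Cfsg.FusionSystem (normalizerIn centralizerIn)

variable {Ω : Type*} [Group Ω] {S T : Subgroup Ω} {F : FusionSystem S} {E : FusionSystem T} {p : ℕ}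
  {K : Subgroup (MulAut T)} [Finite S] [Fact p.Prime]

/-- On a subgroup meeting `T` in a subgroup centric in `E` the class of a map is visible on `T`. -/
theorem eqv_of_cls (h : KData F E p K) {P R : Subgroup Ω} {f : Ω → Ω} {b : MulAut S}
    {a k : MulAut T} (hb : Cls F p P f b) (hr : Res F T b a) (hRP : R ≤ P) (hR : E.IsCentric R)
    (hd : Dec F E R f k) : Eqv K a k := by
  obtain ⟨-, g, hg, he⟩ := hb
  have hle : R ≤ P ⊓ T := le_inf hRP hR.1
  obtain ⟨k', hk', hdk⟩ := gen_inK h hg (eCentric_mono hR hle inf_le_right)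
  have h2 : Dec F E R f (a * k') := by
    refine ((hdk.mono hle).comp h.nd (dec_aut le_rfl hr.2.1) fun x hx => hdk.mem (hle hx)).congr
      fun x hx => ?_
    rw [Function.comp_apply, ← hr.2.2 _ (hdk.mem (hle hx))]
    exact (he (hRP hx)).symm
  have h3 := dec_unique h hR (fun R' _ => uniqueOn h R') h2 hd
  show k⁻¹ * a ∈ K
  have := K.mul_mem h3 (K.inv_mem hk')
  rwa [← mul_assoc, mul_inv_cancel_right] at this

theorem mem_resK_of_inK (h : KData F E p K) {P R : Subgroup Ω} {f : Ω → Ω} {b : MulAut S}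
    (hb : Cls F p P f b) (hRP : R ≤ P) (hR : E.IsCentric R) (hd : InK F E K R f) :
    b ∈ resK F T K h.nd.tS := by
  obtain ⟨a, ha⟩ := exists_res h.nd hb.1
  obtain ⟨k, hk, hdk⟩ := hd
  refine ⟨a, ?_, ha⟩
  simpa using K.mul_mem hk (eqv_of_cls h hb ha hRP hR hdk)

/-- The subsystem of the maps of class in `K`. -/
noncomputable def kSystem (F : FusionSystem S) (p : ℕ) (T : Subgroup Ω) (K : Subgroup (MulAut T))
    (hT : T ≤ S) : FusionSystem S :=
  fdSystem F p (resK F T K hT)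

theorem kSystem_isSaturated (h : KData F E p K) :
    (kSystem F p T K h.nd.tS).IsSaturated p :=
  PrimeIndex.fdSystem_isSaturated h.nd.pgroup h.nd.sat resK_le (h0_le_resK h)

theorem kSystem_primeToP (h : KData F E p K) :
    (kSystem F p T K h.nd.tS).HasPrimeToPIndexIn F p :=
  PrimeIndex.fdSystem_primeToP h.nd.pgroup h.nd.sat

theorem kSystem_normal (h : KData F E p K) : (kSystem F p T K h.nd.tS).IsNormalIn F p :=
  PrimeIndex.fdSystem_normal h.nd.pgroup h.nd.sat resK_le (h0_le_resK h)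
    fun _ hb _ hc => resK_normal h hb hc

theorem sub_kSystem (h : KData F E p K) : E.IsSubsystemOf (kSystem F p T K h.nd.tS) := by
  haveI := h.nd.finiteT
  intro P
  refine hom_subset_of_isMap fun f hf => ?_
  have : FD F p (resK F T K h.nd.tS) P f := by
    refine alperin_induction_cr h.nd.tp h.nd.eSat (fun P f => FD F p (resK F T K h.nd.tS) P f)
      (fun P f g hf he => hf.congr he)
      (fun P Q f g hf _ hCf hCg => hCf.comp hCg fun x hx => hf.mem hx)
      (fun P Q f _ hle hQf => hQf.mono hle) ?_ P f hf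
    intro U hUc _ _ e he
    obtain ⟨b, hb⟩ := PrimeIndex.cls_exists h.nd.pgroup h.nd.sat (he.1.of_isSubsystemOf h.nd.sub)
    exact ⟨b, mem_resK_of_inK h hb le_rfl hUc ⟨1, one_mem _, dec_map he.1⟩, hb⟩
  exact isMap_fdSystem.mpr this

theorem autGroup_kSystem_le (h : KData F E p K) : (kSystem F p T K h.nd.tS).autGroup T ≤ K := by
  intro a ha
  have hm := ((mem_autGroup h.nd.tS).mp ha).1
  obtain ⟨b, ⟨a', ha', hr⟩, hb⟩ := isMap_fdSystem.mp hm
  have haF : a ∈ F.autGroup T := autGroup_mem_of_isMap hb.isMap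
  have h1 := eqv_of_cls h hb hr le_rfl (eCentric_top h.nd) (dec_aut le_rfl haF)
  simpa using K.mul_mem ha' (K.inv_mem h1)

theorem normal_kSystem (h : KData F E p K) : E.IsNormalIn (kSystem F p T K h.nd.tS) p := by
  set F₂ := kSystem F p T K h.nd.tS with hF₂
  have hsub : F₂.IsSubsystemOf F := PrimeIndex.fdSystem_sub
  have hsat := kSystem_isSaturated h
  have hcl : F₂.StronglyClosed T :=
    ⟨h.nd.tS, fun R hR φ hφ x => h.nd.closed.2 R hR φ (hsub R hφ) x⟩
  have hinv : StrongInv E F₂ := fun P P' Q φ ψ hPQ hQT hφ hφQ hψ hψP =>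
    h.nd.strongInv P P' Q φ ψ hPQ hQT hφ hφQ (hψ.of_isSubsystemOf hsub)
      ⟨hψP.1.of_isSubsystemOf hsub, hψP.2⟩
  refine Fus93.isNormalIn_of ⟨h.nd.eSat, hsat,
    invariant_of_strongInv h.nd.pgroup hsat (sub_kSystem h) hcl hinv⟩ fun k hk => ?_
  obtain ⟨g, hg, hge, hgc⟩ := Fus93.normal_ext h.nd.normal hk
  refine ⟨g, ⟨isMap_fdSystem.mpr ?_, hg.2⟩, hge, hgc⟩
  obtain ⟨b, hb⟩ := PrimeIndex.cls_exists h.nd.pgroup h.nd.sat hg.1
  exact ⟨b, mem_resK_of_inK h hb le_sup_left (eCentric_top h.nd)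
    ⟨1, one_mem _, (dec_map hk.1).congr fun x hx => (hge x hx).symm⟩, hb⟩

end Cfsg.Agent.Fusion92.TClass
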