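import Cfsg.Agent.Fusion92.TClass.Class

/-!
# Representatives of the centric subgroups whose intersection with `T` is not centric in `E`
-/

set_option autoImplicit false

namespace Cfsg.Agent.Fusion92.TClass

open Cfsg Cfsg.Agent.Fusion Cfsg.Agent.Fusion.NormalLift
open Cfsg.FusionSystem (normalizerIn centralizerIn)
open scoped Pointwise

variable {Ω : Type*} [Group Ω] {S T : Subgroup Ω} {F : FusionSystem S} {E : FusionSystem T} {p : ℕ}

/-- A power restoring `p`-power order. -/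
theorem exists_pow_pPart [Fact p.Prime] {A : Type*} [Group A] [Finite A] (u : A) (n : ℕ) :
    ∃ m : ℕ, (∃ k, (u ^ m) ^ p ^ k = 1) ∧
      ∀ {B : Type*} [Group B] (c : B), c ^ p ^ n = 1 → c ^ m = c := by
  obtain ⟨k, r, hr, hkr⟩ :=
    Nat.exists_eq_pow_mul_and_not_dvd (orderOf_pos u).ne' p (Fact.out : p.Prime).ne_one
  have hcop : r.Coprime (p ^ n) :=
    (((Nat.Prime.coprime_iff_not_dvd (Fact.out : p.Prime)).mpr hr).symm).pow_right n
  refine ⟨(Nat.chineseRemainder hcop 0 1 : ℕ), ⟨k, ?_⟩, fun {B} _ c hc => ?_⟩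
  · obtain ⟨j, hj⟩ := Nat.modEq_zero_iff_dvd.mp (Nat.chineseRemainder hcop 0 1).2.1
    rw [← pow_mul, hj, show r * j * p ^ k = p ^ k * r * j by ring, ← hkr, pow_mul, pow_orderOf_eq_one,
      one_pow]
  · conv_rhs => rw [← pow_one c]
    exact pow_eq_pow_iff_modEq.mpr
      ((Nat.chineseRemainder hcop 0 1).2.2.of_dvd (orderOf_dvd_of_pow_eq_one hc))

variable [Finite S]

theorem image_inf_T (h : NData F E p) {P P' : Subgroup Ω} {f : Ω → Ω} (hf : IsIso F P P' f) :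
    f '' ((P ⊓ T : Subgroup Ω) : Set Ω) = ((P' ⊓ T : Subgroup Ω) : Set Ω) := by
  obtain ⟨fi, hfi, -, hfr⟩ := hf.exists_inv
  refine Set.Subset.antisymm ?_ fun y hy => ?_
  · rintro _ ⟨x, hx, rfl⟩
    exact ⟨hf.mem hx.1, Fusion92.closed_apply h.closed hf.1 hx.1 hx.2⟩
  · exact ⟨fi y, ⟨hfi.mem hy.1, Fusion92.closed_apply h.closed hfi.1 hy.1 hy.2⟩, hfr y hy.1⟩

theorem isIso_inf_T (h : NData F E p) {P P' : Subgroup Ω} {f : Ω → Ω} (hf : IsIso F P P' f) :
    IsIso F (P ⊓ T) (P' ⊓ T) f :=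
  ⟨hf.1.mono inf_le_left, image_inf_T h hf⟩

variable [Fact p.Prime]

/-- Some `F`-conjugate of a subgroup of `T` not centric in `E` does not contain its centralizer. -/
theorem exists_not_centric (h : NData F E p) {R : Subgroup Ω} (hR : R ≤ T) (hc : ¬ E.IsCentric R)
    {R₂ : Subgroup Ω} (hR₂ : F.IsFullyNormalized R₂) (hconj : F.IsConj R R₂) :
    ¬ centralizerIn T R₂ ≤ R₂ := fun hle => hc ⟨hR, fun Q hQ => by
  refine h.centT_conj hR₂ hle ?_
  obtain ⟨e, he⟩ := isConj_iff.mp hQ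
  exact isConj_trans (isConj_symm (IsIso.isConj ⟨he.1.of_isSubsystemOf h.sub, he.2⟩)) hconj⟩

/-- A fully normalized conjugate whose automorphisms all extend to a larger subgroup. -/
theorem exists_rep (h : NData F E p) {P : Subgroup Ω} (hPS : P ≤ S) (hbad : ¬ E.IsCentric (P ⊓ T)) :
    ∃ Q N : Subgroup Ω, F.IsConj P Q ∧ F.IsFullyNormalized Q ∧ Q < N ∧ N ≤ normalizerIn S Q ∧
      ∀ u, IsIso F Q Q u → ∃ u', IsIso F N N u' ∧ Set.EqOn u' u Q := by
  haveI := h.finiteT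
  set R := P ⊓ T with hR
  have hPN : P ≤ normalizerIn S R := fun x hx => by
    haveI := finite_of_le (inf_le_right.trans h.tS : R ≤ S)
    refine ⟨hPS hx, Subgroup.mem_normalizer_fintype fun r hr => ?_⟩
    exact ⟨P.mul_mem (P.mul_mem hx hr.1) (P.inv_mem hx), h.conj_t (hPS hx) hr.2⟩
  obtain ⟨R₂, hR₂, hR₂n⟩ := exists_fullyNormalized (F := F) (inf_le_right.trans h.tS : R ≤ S)
  obtain ⟨θ, hθ, hθR, hθN, -⟩ := h.exists_normT_map hR₂n hR₂
  have hcent := exists_not_centric h inf_le_right hbad hR₂n hR₂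
  obtain ⟨P₂, hP₂⟩ := (hθ.mono hPN).exists_image
  have hP₂T : P₂ ⊓ T = R₂ := SetLike.coe_injective ((image_inf_T h hP₂).symm.trans hθR.2)
  set C := centralizerIn T R₂ with hC
  have hP₂S := hP₂.cod_le
  have hPC : P₂ ≤ Subgroup.normalizer (C : Set Ω) := by
    intro x hx
    haveI := finite_of_le ((Fusion.centralizerIn_le T R₂).trans h.tS)
    refine Subgroup.mem_normalizer_fintype fun c hc => ⟨h.conj_t (hP₂S hx) hc.1,
      Subgroup.mem_centralizer_iff.mpr fun r hr => ?_⟩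
    have h1 : x⁻¹ * r * x ∈ R₂ := by
      rw [← hP₂T]
      rw [← hP₂T] at hr
      exact ⟨P₂.mul_mem (P₂.mul_mem (P₂.inv_mem hx) hr.1) hx,
        by simpa using h.conj_t (S.inv_mem (hP₂S hx)) hr.2⟩
    calc r * (x * c * x⁻¹) = x * ((x⁻¹ * r * x) * c) * x⁻¹ := by group
      _ = x * (c * (x⁻¹ * r * x)) * x⁻¹ := by rw [Subgroup.mem_centralizer_iff.mp hc.2 _ h1]
      _ = x * c * x⁻¹ * r := by group
  set W := P₂ ⊔ C with hW
  have hWS : W ≤ S := sup_le hP₂S ((Fusion.centralizerIn_le _ _).trans h.tS)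
  haveI := finite_of_le hWS
  have hlt : P₂ < W := lt_of_le_of_ne le_sup_left fun he => hcent fun c hc => by
    rw [← hP₂T]
    exact ⟨he.ge (Subgroup.mem_sup_right hc), hc.1⟩
  obtain ⟨g, hg, hgP⟩ := SetLike.exists_of_lt (Fusion.lt_normalizerIn (h.pgroup.to_le hWS) hlt)
  obtain ⟨x, hx, c, hc, rfl⟩ : g ∈ (P₂ : Set Ω) * (C : Set Ω) := by
    rw [← Subgroup.coe_mul_of_left_le_normalizer_right P₂ C hPC]
    exact hg.1
  have hcN : c ∈ normalizerIn S P₂ := by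
    refine ⟨h.tS hc.1, ?_⟩
    have := Subgroup.mul_mem _ (Subgroup.inv_mem _ (P₂.le_normalizer hx)) hg.2
    rwa [inv_mul_cancel_left] at this
  have hcP : c ∉ P₂ := fun hcP => hgP (P₂.mul_mem hx hcP)
  obtain ⟨Q, hQ, hQn⟩ := exists_fullyNormalized (F := F) hP₂S
  obtain ⟨η, hη, hηP, hηN, -⟩ := h.exists_normT_map hQn hQ
  set y := η c with hy
  have hP₂N : P₂ ≤ normalizerIn S P₂ := Fusion.le_normalizerIn hP₂S
  have hyT : y ∈ T := Fusion92.closed_apply h.closed hη hcN hc.1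
  have hyN : y ∈ normalizerIn S Q := hηN c hcN
  have hyQ : y ∉ Q := fun hyQ => hcP (by
    obtain ⟨w, hw, hwe⟩ := hηP.exists_preimage hyQ
    exact hη.injOn (hP₂N hw) hcN hwe ▸ hw)
  have hyR : ∀ r ∈ Q ⊓ T, y * r * y⁻¹ = r := by
    intro r hr
    obtain ⟨w, hw, rfl⟩ : ∃ w ∈ R₂, η w = r := by
      rw [← SetLike.mem_coe, ← image_inf_T h hηP, hP₂T] at hr
      exact hr
    have hwP : w ∈ P₂ := (hP₂T ▸ inf_le_left : R₂ ≤ P₂) hw
    have h2 := hη.map_conj hcN (hP₂N hwP)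
    rw [hy, ← h2, ← Subgroup.mem_centralizer_iff.mp hc.2 w hw, mul_inv_cancel_right]
  haveI := finite_of_le hQn.1
  haveI := finite_mulAut Q
  set A := F.autGroup Q with hA
  have hAR : ∀ b ∈ A, ∀ x : Q, (x : Ω) ∈ Q ⊓ T → ((b x : Q) : Ω) ∈ Q ⊓ T := fun b hb x hx =>
    ⟨(b x).2, by
      have := Fusion92.closed_apply h.closed ((mem_autGroup hQn.1).mp hb).1 x.2 hx.2
      rwa [autFun_coe] at this⟩
  haveI : (Subgroup.comap A.subtype (fixMod Q (Q ⊓ T))).Normal := fixMod_normal A hAR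
  set X : Subgroup (normalizerIn S Q) := (fixMod Q (Q ⊓ T)).comap (conjAutHom S Q) with hX
  set N₀ : Subgroup Ω := X.map (normalizerIn S Q).subtype with hN₀
  set N := Q ⊔ N₀ with hN
  have hN₀le : N₀ ≤ normalizerIn S Q := Subgroup.map_subtype_le _
  have hyX : y ∈ N₀ := by
    refine ⟨⟨y, hyN⟩, ⟨fun z hz => Subtype.ext ?_, fun z => ?_⟩, rfl⟩
    · exact hyR _ hz
    · rw [Subgroup.coe_mul, Subgroup.coe_inv]
      refine ⟨Q.mul_mem (Q.inv_mem z.2) (Subtype.mem _), ?_⟩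
      exact (h.comm_mem (hQn.1 z.2) hyT).2
  refine ⟨Q, N, isConj_trans hP₂.isConj hQ, hQn, ?_, sup_le (Fusion.le_normalizerIn hQn.1) hN₀le, ?_⟩
  · exact lt_of_le_of_ne le_sup_left fun he => hyQ (he.ge (Subgroup.mem_sup_right hyX))
  intro u hu
  obtain ⟨a, ha, hae⟩ := hu.exists_aut
  have hai := (mem_autGroup hQn.1).mp ha
  obtain ⟨U, hU⟩ := (fullyAutomized_of_fullyNormalized h.pgroup h.sat hQn).2
  have hwit : ∀ s ∈ N₀, ∃ s' ∈ N₀, ∀ z ∈ Q, autFun a (s * z * s⁻¹) = s' * autFun a z * s'⁻¹ := by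
    rintro _ ⟨⟨s, hs⟩, hsX, rfl⟩
    set cs : MulAut Q := conjAutHom S Q ⟨s, hs⟩ with hcs
    have hcsA : cs ∈ A := autInducedBy_le_autGroup hQn.1 (by rw [← range_conjAutHom]; exact ⟨_, rfl⟩)
    have hmem : (⟨a * cs * a⁻¹, mul_mem (mul_mem ha hcsA) (inv_mem ha)⟩ : A) ∈
        (fixMod Q (Q ⊓ T)).subgroupOf A :=
      (fixMod_normal A hAR).conj_mem ⟨cs, hcsA⟩ hsX ⟨a, ha⟩
    have hU' := IsPGroup.le_sylow_of_normal
      ((fixMod_isPGroup (h.pgroup.to_le hQn.1)).comap_of_injective _ (Subgroup.subtype_injective _)) U hmem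
    rw [hU, Subgroup.mem_subgroupOf, ← range_conjAutHom] at hU'
    obtain ⟨⟨s', hs'⟩, hs'e⟩ := hU'
    refine ⟨s', ⟨⟨s', hs'⟩, ?_, rfl⟩, fun z hz => ?_⟩
    · show conjAutHom S Q ⟨s', hs'⟩ ∈ fixMod Q (Q ⊓ T)
      rw [hs'e]
      exact hmem
    have h1 : ((conjAutHom S Q ⟨s', hs'⟩ (a ⟨z, hz⟩) : Q) : Ω) =
        ((a * cs * a⁻¹) (a ⟨z, hz⟩) : Q) := by rw [hs'e]
    rw [MulAut.mul_apply, MulAut.mul_apply, MulAut.inv_apply_self] at h1
    show autFun a (s * z * s⁻¹) = _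
    rw [autFun_of_mem a (conj_mem_of_mem_normalizer hs.2 hz), autFun_of_mem a hz]
    exact h1.symm
  have hM : IsExtendable S Q (autFun a) N₀ := ⟨hN₀le.trans (Fusion.normalizerIn_le _ _), fun s hs => by
    obtain ⟨s', hs', hse⟩ := hwit s hs
    exact ⟨(hN₀le hs).2, s', (hN₀le hs').1, hse⟩⟩
  obtain ⟨u', hu', hu'e⟩ := receptive_extend (h.recv hQn) hai hM
  have hNS : N ≤ S := sup_le hQn.1 (hN₀le.trans (Fusion.normalizerIn_le _ _))
  have hm : ∀ z ∈ N, u' z ∈ N := by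
    refine isMap_mem_sup hu' le_sup_left le_sup_right
      (fun z hz => Subgroup.mem_sup_left (hu'e hz ▸ hai.mem hz)) fun s hs => ?_
    obtain ⟨s', hs', hse⟩ := hwit s hs
    have hs'' : s'⁻¹ * u' s ∈ centralizerIn S Q := by
      refine ⟨S.mul_mem (S.inv_mem (hN₀le hs').1) (hu'.apply_mem (Subgroup.mem_sup_right hs)),
        Subgroup.mem_centralizer_iff.mpr fun q hq => ?_⟩
      obtain ⟨z, hz, rfl⟩ := hai.exists_preimage hq
      have h1 := hse z hz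
      rw [← hu'e (conj_mem_of_mem_normalizer (hN₀le hs).2 hz),
        hu'.map_conj (Subgroup.mem_sup_right hs) (Subgroup.mem_sup_left hz), hu'e hz] at h1
      calc autFun a z * (s'⁻¹ * u' s) = s'⁻¹ * (s' * autFun a z * s'⁻¹) * u' s := by group
        _ = s'⁻¹ * (u' s * autFun a z * (u' s)⁻¹) * u' s := by rw [h1]
        _ = s'⁻¹ * u' s * autFun a z := by group
    have hCN : centralizerIn S Q ≤ N₀ := fun w hw => by
      refine ⟨⟨w, Fusion.centralizerIn_le_normalizerIn _ _ hw⟩, ?_, rfl⟩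
      show conjAutHom S Q ⟨w, _⟩ ∈ fixMod Q (Q ⊓ T)
      rw [show conjAutHom S Q ⟨w, Fusion.centralizerIn_le_normalizerIn _ _ hw⟩ = 1 from
        MulEquiv.ext fun z => Subtype.ext (by
          show w * (z : Ω) * w⁻¹ = z
          rw [← Subgroup.mem_centralizer_iff.mp hw.2 _ z.2, mul_inv_cancel_right])]
      exact one_mem _
    have := N₀.mul_mem hs' (hCN hs'')
    rw [mul_inv_cancel_left] at this
    exact Subgroup.mem_sup_right this
  exact ⟨u', isIso_of_mapsTo hu' hNS hm le_rfl, fun z hz => (hu'e hz).trans (hae hz)⟩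

end Cfsg.Agent.Fusion92.TClass
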