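import Cfsg.Agent.Fusion92.TClass.PrimeStep

/-!
# Transport of generated maps and classes by the automorphisms of a larger system
-/

set_option autoImplicit false

namespace Cfsg.Agent.Fusion92.TClass

open Cfsg Cfsg.Agent.Fusion Cfsg.Agent.Fusion.NormalLift Cfsg.Agent.Fusion.PrimeToP
open Cfsg.Agent.PrimeIndex (Cls FD fdSystem isMap_fdSystem)
open Cfsg.FusionSystem (normalizerIn centralizerIn)

variable {Ω : Type*} [Group Ω] {S : Subgroup Ω} {F : FusionSystem S} {p : ℕ}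

/-- A weakly normal subsystem over a subgroup containing its centralizer is normal. -/
theorem normal_of_centric {U : Subgroup Ω} {F₂ : FusionSystem U} (hw : F₂.IsWeaklyNormalIn F p)
    (hC : centralizerIn S U ≤ U) : F₂.IsNormalIn F p := by
  refine Fus93.isNormalIn_of hw fun k hk => ?_
  have hk' : IsIso F U U k := ⟨hk.1.of_isSubsystemOf hw.2.2.1, hk.2⟩
  refine ⟨k, by rw [sup_eq_left.mpr hC]; exact hk', fun _ _ => rfl, fun c hc => ?_⟩
  exact ⟨U.mul_mem (U.inv_mem (hC hc)) (hk.mem (hC hc)), Subgroup.mul_mem _ (Subgroup.inv_mem _ hc.2)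
    (Fusion.map_mem_centralizer hk'.1 le_rfl hk'.2 (hC hc) hc.2).2⟩

theorem normal_self (hF : F.IsSaturated p) : F.IsNormalIn F p := by
  refine normal_of_centric ⟨hF, hF, Fus93.isInvariantIn_of (fun _ => Set.Subset.rfl)
    ⟨le_rfl, fun R _ φ hφ x => (F.le_of_mem hφ).2 x⟩ (fun P f hf k hk P' hP' => ?_)
    fun P f hf _ => ⟨id, f, isIso_id le_rfl, hf, fun _ _ => rfl⟩⟩ inf_le_left
  obtain ⟨ki, hki, hkl, -⟩ := hk.exists_inv
  have hkP : IsIso F P P' k := ⟨hk.1.mono hf.dom_le, hP'.symm⟩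
  refine ⟨k ∘ f ∘ ki, ((hki.1.mono hkP.cod_le).comp hf fun y hy => ?_).comp hk.1 fun y hy => ?_,
    fun x hx => ?_⟩
  · obtain ⟨x, hx, rfl⟩ := hkP.exists_preimage hy
    rwa [hkl x (hf.dom_le hx)]
  · obtain ⟨x, hx, rfl⟩ := hkP.exists_preimage hy
    rw [Function.comp_apply, hkl x (hf.dom_le hx)]
    exact hf.apply_mem hx
  · simp only [Function.comp_apply, hkl x (hf.dom_le hx)]

variable {S₁ T : Subgroup Ω} {F₁ : FusionSystem S₁} [Finite S] [Fact p.Prime]

/-- Generated maps are transported by the automorphisms of `S₁` in `F`. -/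
theorem gen_transport (hN : NData F F₁ p) {α αi : Ω → Ω} (hα : IsIso F S₁ S₁ α)
    (hl : ∀ x ∈ S₁, αi (α x) = x) {P : Subgroup Ω} {f : Ω → Ω} (hg : Gen F₁ p P f) :
    ∀ P' : Subgroup Ω, (P' : Set Ω) = α '' (P : Set Ω) → Gen F₁ p P' (α ∘ f ∘ αi) := by
  have hback : ∀ {P P' : Subgroup Ω}, P ≤ S₁ → (P' : Set Ω) = α '' (P : Set Ω) → ∀ y ∈ P',
      ∃ x ∈ P, α x = y ∧ αi y = x := by
    intro P P' hP hP' y hy
    have : y ∈ α '' (P : Set Ω) := hP' ▸ hy
    obtain ⟨x, hx, rfl⟩ := this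
    exact ⟨x, hx, rfl, hl x (hP hx)⟩
  have hle : ∀ {P P' : Subgroup Ω}, P ≤ S₁ → (P' : Set Ω) = α '' (P : Set Ω) → P' ≤ S₁ := by
    intro P P' hP hP' y hy
    obtain ⟨x, hx, rfl, -⟩ := hback hP hP' y hy
    exact hα.mem (hP hx)
  induction hg with
  | @conj P s hP hs =>
    intro P' hP'
    refine (Gen.conj (s := α s) (hle hP hP') (hα.mem hs)).congr fun y hy => ?_
    obtain ⟨x, hx, rfl, hxi⟩ := hback hP hP' y hy
    simp only [Function.comp_apply, hxi]
    exact (hα.1.map_conj hs (hP hx)).symm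
  | @aut P Q a hc ha hk hPQ =>
    intro P' hP'
    obtain ⟨Q', hQ'⟩ := (hα.1.mono hc.1).exists_image
    obtain ⟨k, hk⟩ := hk
    have hsub : P' ≤ Q' := fun y hy => by
      obtain ⟨x, hx, rfl, -⟩ := hback (hPQ.trans hc.1) hP' y hy
      exact hQ'.mem (hPQ hx)
    have ha' : MulAut.congr hQ'.equiv a ∈ F₁.autGroup Q' := by
      have hai := (mem_autGroup hc.1).mp ha
      obtain ⟨χ, hχ, hχe⟩ := hN.strongInv Q Q' Q (autFun a) α le_rfl hc.1 hai.1
        (fun x hx => hai.mem hx) hQ'.1 hQ'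
      refine autGroup_mem_of_isMap (hχ.congr fun y hy => ?_)
      obtain ⟨x, hx, rfl⟩ := hQ'.exists_preimage hy
      rw [hχe x hx, NormalLift.autFun_congr hQ' a hx]
    refine (Gen.aut (a := MulAut.congr hQ'.equiv a) (eCentric_image hN hc hQ') ha'
      ⟨k, by rw [← map_pow, hk, map_one]⟩ hsub).congr fun y hy => ?_
    obtain ⟨x, hx, rfl, hxi⟩ := hback (hPQ.trans hc.1) hP' y hy
    simp only [Function.comp_apply, hxi]
    exact NormalLift.autFun_congr hQ' a (hPQ hx)
  | @comp P Q f g hf hg hm ihf ihg =>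
    intro P' hP'
    obtain ⟨Q', hQ'⟩ := (hα.1.mono hg.isMap.dom_le).exists_image
    refine ((ihf P' hP').comp (ihg Q' hQ'.2.symm) fun y hy => ?_).congr fun y hy => ?_
    · obtain ⟨x, hx, rfl, hxi⟩ := hback hf.isMap.dom_le hP' y hy
      simp only [Function.comp_apply, hxi]
      exact hQ'.mem (hm x hx)
    · obtain ⟨x, hx, rfl, hxi⟩ := hback hf.isMap.dom_le hP' y hy
      simp only [Function.comp_apply, hxi, hl _ (hg.isMap.dom_le (hm x hx))]
  | @inv P Q f g hf him hinv ihf =>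
    intro Q' hQ'
    have hiso : IsIso F₁ P Q f := ⟨hf.isMap, him⟩
    obtain ⟨P', hP'⟩ := (hα.1.mono hf.isMap.dom_le).exists_image
    refine Gen.inv (ihf P' hP'.2.symm) ?_ fun y hy => ?_
    · rw [hQ', ← hiso.2, ← hP'.2, Set.image_image, Set.image_image]
      exact Set.image_congr fun x hx => by
        simp only [Function.comp_apply, hl _ (hf.isMap.dom_le hx)]
    · obtain ⟨x, hx, rfl, hxi⟩ := hback hf.isMap.dom_le hP'.2.symm y hy
      simp only [Function.comp_apply, hxi, hl _ (hf.isMap.apply_mem hx), hinv x hx]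
  | @congr P f g hf he ih =>
    intro P' hP'
    refine (ih P' hP').congr fun y hy => ?_
    obtain ⟨x, hx, rfl, hxi⟩ := hback hf.isMap.dom_le hP' y hy
    simp only [Function.comp_apply, hxi, he hx]

variable {E : FusionSystem T} {K : Subgroup (MulAut T)}

/-- The subsystem given by `K` is normal in every system in which `F₁` is normal and `K` is stable. -/
theorem kSystem_normal_up (hN : NData F F₁ p) (h : KData F₁ E p K) (hTS : F.StronglyClosed T)
    (hK : ∀ a ∈ K, ∀ c ∈ F.autGroup T, c * a * c⁻¹ ∈ K) (hC : centralizerIn S S₁ ≤ S₁) :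
    (kSystem F₁ p T K h.nd.tS).IsNormalIn F p := by
  haveI := finite_of_le hN.tS
  haveI := finite_mulAut S₁
  refine normal_of_centric ⟨kSystem_isSaturated h, hN.sat, Fus93.isInvariantIn_of
    (fun P => (PrimeIndex.fdSystem_sub P).trans (hN.sub P)) hN.closed (fun P f hf k hk P' hP' => ?_)
    fun P f hf hPS => ?_⟩ hC
  · obtain ⟨b, ⟨a, ha, hba⟩, hb, g, hg, hfe⟩ := isMap_fdSystem.mp hf
    obtain ⟨ki, hki, hkl, -⟩ := hk.exists_inv
    have hkP : IsIso F P P' k := ⟨hk.1.mono hf.dom_le, hP'.symm⟩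
    have hg' := gen_transport hN hk hkl hg P' hP'
    obtain ⟨c, hcA, hce⟩ := hk.exists_aut
    have hb' : c * b * c⁻¹ ∈ F₁.autGroup S₁ := NormalLift.autGroup_conj_mem hN le_rfl hb hcA
    -- the restriction of `c` to `T`
    have hci := (mem_autGroup hN.tS).mp hcA
    obtain ⟨d, hd, hde⟩ := (isIso_of_mapsTo (hci.1.mono h.nd.tS) hTS.1
      (fun x hx => Fusion92.closed_apply hTS hci.1 (h.nd.tS hx) hx) le_rfl).exists_aut
    obtain ⟨a', ha'⟩ := exists_res h.nd hb'
    have haa : a' = d * a * d⁻¹ := by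
      refine MulEquiv.ext fun x => Subtype.ext ?_
      have hx₁ := h.nd.tS x.2
      have hdi : autFun d⁻¹ x = autFun c⁻¹ x := by
        have hy := PrimeIndex.autFun_mem d⁻¹ x.2
        have h1 : autFun c (autFun d⁻¹ x) = x := (hde hy).symm.trans (PrimeIndex.autFun_apply_inv d x.2)
        conv_rhs => rw [← h1]
        exact (PrimeIndex.autFun_inv_apply c (h.nd.tS hy)).symm
      rw [← autFun_coe a', ← autFun_coe (d * a * d⁻¹), ← ha'.2.2 x x.2, autFun_mul _ _ x.2,
        autFun_mul _ _ hx₁, Function.comp_apply, Function.comp_apply,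
        autFun_mul _ _ (PrimeIndex.autFun_mem _ x.2), autFun_mul _ _ (PrimeIndex.autFun_mem _ hx₁),
        Function.comp_apply, Function.comp_apply, ← hdi, hba.2.2 _ (PrimeIndex.autFun_mem _ x.2)]
      exact (hde (PrimeIndex.autFun_mem a (PrimeIndex.autFun_mem _ x.2))).symm
    refine ⟨autFun (c * b * c⁻¹) ∘ (k ∘ g ∘ ki), isMap_fdSystem.mpr
      ⟨c * b * c⁻¹, ⟨a', haa ▸ hK a ha d hd, ha'⟩, hb', _, hg', fun _ _ => rfl⟩, fun x hx => ?_⟩
    have hx₁ := hf.dom_le hx
    have hgx : g x ∈ S₁ := hg.isMap.apply_mem hx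
    simp only [Function.comp_apply, hkl x hx₁]
    rw [← hce hgx, autFun_mul _ _ (PrimeIndex.autFun_mem c hgx), Function.comp_apply,
      PrimeIndex.autFun_inv_apply c hgx, autFun_mul _ _ hgx, Function.comp_apply, hfe hx,
      Function.comp_apply]
    exact hce (PrimeIndex.autFun_mem b hgx)
  · obtain ⟨k, g, hk, hg, hfe⟩ := invariant_frattini hN.invariant hf hPS
    obtain ⟨α, g', hα, hg', hge⟩ := factors_all (hN.pgroup.to_le hN.tS) hN.normal.1.1 hg
    refine ⟨k ∘ α, g', IsIso.comp ⟨hα.1.of_isSubsystemOf hN.sub, hα.2⟩ hk,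
      isMap_fdSystem.mpr (PrimeIndex.fd_of_gen hg'), fun x hx => ?_⟩
    rw [hfe x hx, hge hx]
    rfl

end Cfsg.Agent.Fusion92.TClass
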