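import Cfsg.Agent.Fusion92.TClass.Rep

/-!
# The class of a map on a centric subgroup is unique modulo `K`
-/

set_option autoImplicit false

namespace Cfsg.Agent.Fusion92.TClass

open Cfsg Cfsg.Agent.Fusion Cfsg.Agent.Fusion.NormalLift Cfsg.Agent.Fusion.PrimeToP
open Cfsg.FusionSystem (normalizerIn centralizerIn)

variable {Ω : Type*} [Group Ω] {S T : Subgroup Ω} {F : FusionSystem S} {E : FusionSystem T} {p : ℕ}
  {K : Subgroup (MulAut T)}

theorem Cl.isMap {M : Subgroup Ω} {f : Ω → Ω} {a : MulAut T} (h : Cl F p T M f a) : IsMap F M f :=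
  let ⟨_, hb, _⟩ := h; hb.isMap

variable [Finite S] [Fact p.Prime]

theorem isCentric_mono (h : NData F E p) {M M' : Subgroup Ω} (hM : F.IsCentric M) (hle : M ≤ M')
    (hS : M' ≤ S) : F.IsCentric M' := by
  have := h.pgroup
  refine ⟨hS, fun Q hQ => ?_⟩
  obtain ⟨f, hf⟩ := isConj_iff.mp hQ
  obtain ⟨M₁, hM₁⟩ := (hf.1.mono hle).exists_image
  have hM₁Q : M₁ ≤ Q := fun y hy => by
    obtain ⟨x, hx, rfl⟩ := hM₁.exists_preimage hy
    exact hf.mem (hle hx)
  exact ((inf_le_inf_left _ (Subgroup.centralizer_le hM₁Q)).trans (hM.2 M₁ hM₁.isConj)).trans hM₁Q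

theorem card_lt_card {A B : Subgroup Ω} (hB : B ≤ S) (hlt : A < B) : Nat.card A < Nat.card B := by
  haveI := finite_of_le hB
  exact lt_of_le_of_ne (Subgroup.card_le_of_le hlt.le) fun he =>
    hlt.ne (Subgroup.eq_of_le_of_card_ge hlt.le he.ge)

set_option maxHeartbeats 1600000 in
theorem unique_class (h : KData F E p K) : ∀ M, F.IsCentric M → ∀ b, Gen F p M (autFun b) →
    ∀ a, Res F T b a → a ∈ K := by
  intro M₀
  induction hn : Nat.card S - Nat.card M₀ using Nat.strong_induction_on generalizing M₀ with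
  | _ n ih =>
  intro hM₀ b hgen a hres
  have hTS := h.nd.tS
  have hV : UniqueAbove F p T K (Nat.card M₀) := fun M hM hlt =>
    ih _ (by have := Subgroup.card_le_of_le hM.1; have := Subgroup.card_le_of_le hM₀.1; omega) M rfl hM
  by_cases hgood : E.IsCentric (M₀ ⊓ T)
  · obtain ⟨k, hk, hd⟩ := gen_inK h hgen hgood
    have h2 : Dec F E (M₀ ⊓ T) (autFun b) a :=
      (dec_aut inf_le_right hres.2.1).congr fun x hx => (hres.2.2 x hx.2).symm
    have h3 := dec_unique h hgood (fun R' _ => uniqueOn h R') h2 hd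
    simpa using K.mul_mem hk h3
  obtain ⟨Q, N, hMQ, hQn, hQN, hNN, hext⟩ := exists_rep h.nd hM₀.1 hgood
  have hQc : F.IsCentric Q := PrimeToP.isCentric_of_isConj hM₀ hMQ
  have hNS : N ≤ S := hNN.trans (Fusion.normalizerIn_le _ _)
  have hQN' : Q ≤ N := hQN.le
  have hNc : F.IsCentric N := isCentric_mono h.nd hQc hQN' hNS
  have hQcard : Nat.card Q = Nat.card M₀ := (isConj_card hMQ).symm
  have hNlt : Nat.card M₀ < Nat.card N := hQcard ▸ card_lt_card hNS hQN
  have hQS : Q < S := lt_of_le_of_lt le_rfl (lt_of_lt_of_le hQN hNS)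
  have hconj : ∀ {M : Subgroup Ω}, F.IsConj M Q →
      F.IsCentric M ∧ Nat.card M = Nat.card M₀ ∧ M < S := by
    intro M hM
    have hc := isConj_card hM
    refine ⟨PrimeToP.isCentric_of_isConj hQc (isConj_symm hM), hc.trans hQcard,
      lt_of_le_of_ne (isConj_le_left hM) fun he => ?_⟩
    have h1 := card_lt_card le_rfl hQS
    rw [he] at hc
    omega
  have hsel : ∀ M, F.IsConj M Q → ∃ θ a, IsMap F (normalizerIn S M) θ ∧ IsIso F M Q θ ∧
      (∀ g ∈ normalizerIn S M, θ g ∈ normalizerIn S Q) ∧ Cl F p T (normalizerIn S M) θ a := by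
    intro M hM
    obtain ⟨θ, hθ, hθM, hθN, -⟩ := h.nd.exists_normT_map hQn hM
    obtain ⟨a, ha⟩ := cl_exists h.nd hθ
    exact ⟨θ, a, hθ, hθM, hθN, ha⟩
  choose θ aθ hθ hθM hθN hθcl using hsel
  -- classes above `M₀`
  have huniq : ∀ {M : Subgroup Ω}, Q ≤ M → Nat.card M₀ < Nat.card M → ∀ {f : Ω → Ω} {c c' : MulAut T},
      Cl F p T M f c → Cl F p T M f c' → Eqv K c c' := fun hle hlt _ _ _ hc hc' =>
    hc.unique hTS hV (isCentric_mono h.nd hQc hle hc.isMap.dom_le) hlt hc'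
  -- existence of the extensions
  have hexu : ∀ (M M₁ : Subgroup Ω) (hM : F.IsConj M Q) (hM₁ : F.IsConj M₁ Q) (g : Ω → Ω),
      IsIso F M M₁ g → ∃ u, IsIso F N N u ∧ ∀ x ∈ M, u (θ M hM x) = θ M₁ hM₁ (g x) := by
    intro M M₁ hM hM₁ g hg
    obtain ⟨θi, hθi, hθl, -⟩ := (hθM M hM).exists_inv
    obtain ⟨u, hu, hue⟩ := hext _ ((hθi.comp hg).comp (hθM M₁ hM₁))
    refine ⟨u, hu, fun x hx => ?_⟩
    rw [hue ((hθM M hM).mem hx)]
    simp only [Function.comp_apply, hθl x hx]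
  -- restrictions of maps on larger subgroups
  have join : ∀ (M M₁ : Subgroup Ω) (hM : F.IsConj M Q) (hM₁ : F.IsConj M₁ Q) (g : Ω → Ω),
      IsIso F M M₁ g → ∀ (W : Subgroup Ω) (f : Ω → Ω) (d : MulAut T), M < W → Cl F p T W f d →
      Set.EqOn f g M → ∀ u, IsIso F N N u → (∀ x ∈ M, u (θ M hM x) = θ M₁ hM₁ (g x)) →
      ∀ c, Cl F p T N u c → Eqv K c (aθ M₁ hM₁ * d * (aθ M hM)⁻¹) := by
    intro M M₁ hM hM₁ g hg W f d hlt hf he u hu hur c hc
    haveI := finite_of_le hf.isMap.dom_le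
    have hWN : M < normalizerIn W M := Fusion.lt_normalizerIn (h.nd.pgroup.to_le hf.isMap.dom_le) hlt
    set W₁ := normalizerIn W M with hW₁
    have hW₁le : W₁ ≤ normalizerIn S M := fun x hx => ⟨hf.isMap.dom_le hx.1, hx.2⟩
    have hf₁ : Cl F p T W₁ f d := hf.mono inf_le_left
    have him : f '' (M : Set Ω) = (M₁ : Set Ω) := (Set.image_congr he).trans hg.2
    have hfN : ∀ x ∈ W₁, f x ∈ normalizerIn S M₁ := fun x hx =>
      Fusion.map_mem_normalizer hf₁.isMap hWN.le him hx hx.2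
    obtain ⟨W₂, hW₂⟩ := ((hθ M hM).mono hW₁le).exists_image
    obtain ⟨θi, hθi, hθl, -⟩ := hW₂.exists_inv
    have hQW₂ : Q ≤ W₂ := fun y hy => by
      obtain ⟨x, hx, rfl⟩ := (hθM M hM).exists_preimage hy
      exact hW₂.mem (hWN.le hx)
    have hW₂N : W₂ ≤ normalizerIn S Q := fun y hy => by
      obtain ⟨x, hx, rfl⟩ := hW₂.exists_preimage hy
      exact hθN M hM x (hW₁le hx)
    have hW₂card : Nat.card M₀ < Nat.card W₂ := by
      rw [← hW₂.card_eq, ← (hconj hM).2.1]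
      exact card_lt_card hW₂.dom_le hWN
    have hθicl : Cl F p T W₂ θi (aθ M hM)⁻¹ := ((hθcl M hM).mono hW₁le).inv hTS hW₂ hθl
    have hfθ : Cl F p T W₂ (f ∘ θi) (d * (aθ M hM)⁻¹) := hθicl.comp hTS hf₁ fun y hy => hθi.mem hy
    have hw : Cl F p T W₂ (θ M₁ hM₁ ∘ (f ∘ θi)) (aθ M₁ hM₁ * (d * (aθ M hM)⁻¹)) :=
      hfθ.comp hTS (hθcl M₁ hM₁) fun y hy => hfN _ (hθi.mem hy)
    set w := θ M₁ hM₁ ∘ (f ∘ θi) with hwd
    have hwu : Set.EqOn w u Q := by
      intro y hy
      obtain ⟨x, hx, rfl⟩ := (hθM M hM).exists_preimage hy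
      rw [hur x hx, hwd]
      simp only [Function.comp_apply]
      rw [hθl x (hWN.le hx), he hx]
    have huQ : IsIso F Q Q u := by
      refine isIso_of_mapsTo (hu.1.mono hQN') hQn.1 (fun y hy => ?_) le_rfl
      obtain ⟨x, hx, rfl⟩ := (hθM M hM).exists_preimage hy
      rw [hur x hx]
      exact (hθM M₁ hM₁).mem (hg.mem hx)
    obtain ⟨φu, -, hφu⟩ := id huQ.1
    have hJ : W₂ ⊔ N ≤ FusionSystem.extender S Q φu := by
      refine sup_le (le_extender_of_isExtendable hφu ⟨hW₂N.trans (Fusion.normalizerIn_le _ _),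
        fun m hm => ⟨(hW₂N hm).2, w m, hw.isMap.apply_mem hm, fun x hx => ?_⟩⟩)
        (le_extender_of_isExtendable hφu ⟨hNS,
        fun m hm => ⟨(hNN hm).2, u m, hu.1.apply_mem hm, fun x hx => hu.1.map_conj hm (hQN' hx)⟩⟩)
      rw [← hwu (conj_mem_of_mem_normalizer (hW₂N hm).2 hx), ← hwu hx]
      exact hw.isMap.map_conj hm (hQW₂ hx)
    obtain ⟨j, hj, hje⟩ := receptive_extend (h.nd.recv hQn) huQ
      ⟨hJ.trans (isExtendable_extender hφu).1, fun m hm => (isExtendable_extender hφu).2 m (hJ hm)⟩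
    obtain ⟨e, hje'⟩ := cl_exists h.nd hj
    have h1 : Cl F p T N u e := (hje'.mono (le_sup_right.trans le_sup_right)).of_agree h.nd hQc hQN'
      (hj.mono (le_sup_right.trans le_sup_right)) hu.1 hje
    have h2 : Cl F p T W₂ w e := (hje'.mono (le_sup_left.trans le_sup_right)).of_agree h.nd hQc hQW₂
      (hj.mono (le_sup_left.trans le_sup_right)) hw.isMap (hje.trans hwu.symm)
    rw [mul_assoc]
    exact (huniq hQN' hNlt hc h1).trans (huniq hQW₂ hW₂card h2 hw)
  -- the invariant of the generated maps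
  have psi : ∀ (P : Subgroup Ω) (g : Ω → Ω), Gen F p P g → ∀ (M M₁ : Subgroup Ω) (hM : F.IsConj M Q)
      (hM₁ : F.IsConj M₁ Q), M ≤ P → IsIso F M M₁ g → ∀ u, IsIso F N N u →
      (∀ x ∈ M, u (θ M hM x) = θ M₁ hM₁ (g x)) →
      ∀ c, Cl F p T N u c → Eqv K c (aθ M₁ hM₁ * (aθ M hM)⁻¹) := by
    intro P g hg
    induction hg with
    | @conj P s hP hs =>
      intro M M₁ hM hM₁ hle hiso u hu hur c hc
      have := join M M₁ hM hM₁ _ hiso S _ 1 (hconj hM).2.2
        (cl_of_gen hTS (Gen.conj le_rfl hs)) (fun _ _ => rfl) u hu hur c hc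
      rwa [mul_one] at this
    | @aut P Q' e hQ' he hk hPQ =>
      intro M M₁ hM hM₁ hle hiso u hu hur c hc
      rcases (hle.trans hPQ).eq_or_lt with heq | hlt
      · subst heq
        have heM : IsIso F M M (autFun e) := (mem_autGroup hQ'.1).mp he
        obtain rfl : M₁ = M := hiso.cod_unique heM
        obtain ⟨ν, hν⟩ := hk
        obtain ⟨v, hv, hve⟩ := hu.exists_aut
        haveI := finite_of_le hNS
        haveI := finite_mulAut N
        have hit : ∀ j : ℕ, ∀ x ∈ M₁, autFun (v ^ j) (θ M₁ hM x) = θ M₁ hM (autFun (e ^ j) x) := by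
          intro j
          induction j with
          | zero =>
            intro x hx
            rw [pow_zero, pow_zero, autFun_one (hQN' ((hθM M₁ hM).mem hx)), autFun_one hx]
            rfl
          | succ j ihj =>
            intro x hx
            have hy := PrimeIndex.autFun_mem (e ^ j) hx
            rw [pow_succ', pow_succ', autFun_mul _ _ (hQN' ((hθM M₁ hM).mem hx)), autFun_mul _ _ hx,
              Function.comp_apply, Function.comp_apply, ihj x hx, hve (hQN' ((hθM M₁ hM).mem hy))]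
            exact hur _ hy
        obtain ⟨m, hm, hm1⟩ := exists_pow_pPart (p := p) v ν
        have hv' := (F.autGroup N).pow_mem hv m
        have h1 : Cl F p T N (autFun (v ^ m)) 1 := cl_of_gen hTS (Gen.aut hNc hv' hm le_rfl)
        have h2 : Cl F p T N u 1 := by
          refine h1.of_agree h.nd hQc hQN' ((mem_autGroup hNS).mp hv').1 hu.1 fun y hy => ?_
          obtain ⟨x, hx, rfl⟩ := (hθM M₁ hM).exists_preimage hy
          rw [hit m x hx, hm1 e hν]
          exact (hur x hx).symm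
        rw [mul_inv_cancel]
        exact huniq hQN' hNlt hc h2
      · have := join M M₁ hM hM₁ _ hiso Q' _ 1 hlt
          (cl_of_gen hTS (Gen.aut hQ' he hk le_rfl)) (fun _ _ => rfl) u hu hur c hc
        rwa [mul_one] at this
    | @comp P Q' f g hf hg hm ihf ihg =>
      intro M M₁ hM hM₁ hle hiso u hu hur c hc
      obtain ⟨M', hM'⟩ := (hf.isMap.mono hle).exists_image
      have hM'Q : F.IsConj M' Q := isConj_trans (isConj_symm hM'.isConj) hM
      have hg' : IsIso F M' M₁ g := ⟨hg.isMap.mono fun y hy => by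
        obtain ⟨x, hx, rfl⟩ := hM'.exists_preimage hy
        exact hm x (hle hx), by rw [← hM'.2, ← Set.image_comp]; exact hiso.2⟩
      obtain ⟨u₁, hu₁, hu₁r⟩ := hexu M M' hM hM'Q f hM'
      obtain ⟨u₂, hu₂, hu₂r⟩ := hexu M' M₁ hM'Q hM₁ g hg'
      obtain ⟨c₁, hc₁⟩ := cl_exists h.nd hu₁.1
      obtain ⟨c₂, hc₂⟩ := cl_exists h.nd hu₂.1
      have e₁ := ihf M M' hM hM'Q hle hM' u₁ hu₁ hu₁r c₁ hc₁
      have e₂ := ihg M' M₁ hM'Q hM₁ (fun y hy => by
        obtain ⟨x, hx, rfl⟩ := hM'.exists_preimage hy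
        exact hm x (hle hx)) hg' u₂ hu₂ hu₂r c₂ hc₂
      have h12 := hc₁.comp hTS hc₂ fun x hx => hu₁.mem hx
      have h3 : Cl F p T N u (c₂ * c₁) := by
        refine h12.of_agree h.nd hQc hQN' h12.isMap hu.1 fun y hy => ?_
        obtain ⟨x, hx, rfl⟩ := (hθM M hM).exists_preimage hy
        rw [Function.comp_apply, hu₁r x hx, hu₂r _ (hM'.mem hx), hur x hx]
        rfl
      refine (huniq hQN' hNlt hc h3).trans (((e₂.mul_right h hc₁.mem).trans (e₁.mul_left _)).trans ?_)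
      rw [mul_assoc, inv_mul_cancel_left]
      exact eqv_refl _
    | @inv P Q' f g hf him hl ihf =>
      intro M M₁ hM hM₁ hle hiso u hu hur c hc
      have hinv : IsIso F P Q' f := ⟨hf.isMap, him⟩
      have hg : ∀ y ∈ M, f (g y) = y := by
        intro y hy
        obtain ⟨x, hx, rfl⟩ := hinv.exists_preimage (hle hy)
        rw [hl x hx]
      have hM₁P : M₁ ≤ P := fun z hz => by
        obtain ⟨y, hy, rfl⟩ := hiso.exists_preimage hz
        obtain ⟨x, hx, rfl⟩ := hinv.exists_preimage (hle hy)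
        rw [hl x hx]; exact hx
      have hfM : IsIso F M₁ M f := ⟨hf.isMap.mono hM₁P, by
        rw [← hiso.2, ← Set.image_comp]
        exact (Set.image_congr hg).trans (Set.image_id' _)⟩
      obtain ⟨ui, hui, huil, -⟩ := hu.exists_inv
      obtain ⟨c', hc'⟩ := cl_exists h.nd hui.1
      have e₁ := ihf M₁ M hM₁ hM hM₁P hfM ui hui (fun z hz => by
        obtain ⟨y, hy, rfl⟩ := hiso.exists_preimage hz
        rw [hg y hy, ← hur y hy, huil _ (hQN' ((hθM M hM).mem hy))]) c' hc'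
      have h3 : Eqv K c c'⁻¹ := by
        refine huniq hQN' hNlt hc (hc'.inv hTS hui fun x hx => ?_)
        obtain ⟨y, hy, rfl⟩ := hu.exists_preimage hx
        rw [huil y hy]
      refine h3.trans ?_
      have h4 := e₁.inv h hc'.mem (mul_mem (hθcl M hM).mem (inv_mem (hθcl M₁ hM₁).mem))
      rwa [mul_inv_rev, inv_inv] at h4
    | @congr P f g hf he ih =>
      intro M M₁ hM hM₁ hle hiso u hu hur c hc
      exact ih M M₁ hM hM₁ hle (hiso.congr fun x hx => (he (hle hx)).symm) u hu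
        (fun x hx => by rw [he (hle hx)]; exact hur x hx) c hc
  -- conclusion
  obtain ⟨M₁, hM₁⟩ := hgen.isMap.exists_image
  have hM₁Q : F.IsConj M₁ Q := isConj_trans (isConj_symm hM₁.isConj) hMQ
  obtain ⟨u, hu, hur⟩ := hexu M₀ M₁ hMQ hM₁Q _ hM₁
  obtain ⟨c, hc⟩ := cl_exists h.nd hu.1
  have e₁ := psi M₀ _ hgen M₀ M₁ hMQ hM₁Q le_rfl hM₁ u hu hur c hc
  have e₂ := join M₀ M₁ hMQ hM₁Q _ hM₁ S _ a (hconj hMQ).2.2 (cl_aut le_rfl hres) (fun _ _ => rfl)
    u hu hur c hc
  have e₃ := ((e₂.symm.trans e₁).mul_left (aθ M₁ hM₁Q)⁻¹).mul_right h (hθcl M₀ hMQ).mem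
  simpa [Eqv, mul_assoc] using e₃

/-- The kernel contains the generators of `H0`. -/
theorem h0_le_resK (h : KData F E p K) : PrimeIndex.H0 F p ≤ resK F T K h.nd.tS := by
  refine (Subgroup.closure_le _).mpr ?_
  rintro b ⟨hb, M, hM, hgen⟩
  obtain ⟨a, ha⟩ := exists_res h.nd hb
  exact ⟨a, unique_class h M hM b hgen a ha, ha⟩

end Cfsg.Agent.Fusion92.TClass
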